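import Cfsg.Agent.Mrg.Omega.NOne.LemmaT
import Cfsg.Agent.ZN.Map
import Cfsg.Agent.Mrg.Omega.NO1.Beta.Rep
import Cfsg.Agent.Mrg.Omega.NO1.Types
import Cfsg.Agent.Mrg.Omega.NO1.Tens.Basic
import Cfsg.Agent.Mrg.Omega.NO1.Beta.Meet
import Cfsg.Agent.Mrg.Omega.All.NOne.TwoC

-- merged: Cfsg.Agent.Mrg.Omega.NOne.BetaTwo.Basic
section

/-!
# NO-1, type (beta), `q = 2`: the five points of `V = O₄⁻(2)`

`z : Fin 5 → G` are five involutions, pairwise commuting, with product `1`, permuted by `P` at least by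
the alternating group.
-/

set_option autoImplicit false
set_option Elab.async false

namespace Cfsg.Agent.Omega.NOne.BetaTwo.Basic

open Subgroup Equiv Cfsg Cfsg.Agent.MinSimple.VModule Cfsg.Agent.MinSimple.Basic
open Cfsg.Agent.ZN (o2 o2_map)

universe u

/-! ### Five points -/

theorem five : ∀ i j k l m a : Fin 5, [i, j, k, l, m].Nodup →
    a = i ∨ a = j ∨ a = k ∨ a = l ∨ a = m := by
  decide +kernel

theorem ne1 : ∀ i : Fin 5, ∃ j, i ≠ j := by decide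

theorem ext2 : ∀ i j : Fin 5, i ≠ j → ∃ k l m, [i, j, k, l, m].Nodup := by
  decide +kernel

theorem ext3 : ∀ i j k : Fin 5, i ≠ j → i ≠ k → j ≠ k → ∃ l m, [i, j, k, l, m].Nodup := by
  decide +kernel

theorem perm0 : ∀ σ : Perm (Fin 5), σ 0 = 0 → σ ^ 4 = 1 →
    (∀ τ : Perm (Fin 5), Perm.sign τ = 1 → τ 0 = 0 → (σ * (τ * σ⁻¹ * τ⁻¹)) ^ 4 = 1) →
    σ = 1 ∨ (σ * σ = 1 ∧ ∀ j, j ≠ 0 → σ j ≠ j) := by
  decide +kernel

theorem nd {i j k l m : Fin 5} (h : [i, j, k, l, m].Nodup) :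
    i ≠ j ∧ i ≠ k ∧ i ≠ l ∧ i ≠ m ∧ j ≠ k ∧ j ≠ l ∧ j ≠ m ∧ k ≠ l ∧ k ≠ m ∧ l ≠ m := by
  simp only [List.nodup_cons, List.mem_cons, List.not_mem_nil, not_or, or_false] at h
  tauto

/-- the permutation with given values -/
theorem exists_perm {i j k l m : Fin 5} (h : [i, j, k, l, m].Nodup) :
    ∃ σ : Perm (Fin 5), σ 0 = i ∧ σ 1 = j ∧ σ 2 = k ∧ σ 3 = l ∧ σ 4 = m := by
  have hs : Function.Surjective ![i, j, k, l, m] := by
    intro a
    rcases five i j k l m a h with h | h | h | h | h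
    · exact ⟨0, by simp [h]⟩
    · exact ⟨1, by simp [h]⟩
    · exact ⟨2, by simp [h]⟩
    · exact ⟨3, by simp [h]⟩
    · exact ⟨4, by simp [h]⟩
  have hb : Function.Bijective ![i, j, k, l, m] := Finite.surjective_iff_bijective.1 hs
  exact ⟨Equiv.ofBijective _ hb, rfl, rfl, rfl, rfl, rfl⟩

theorem exists_perm' {i j k l m i' j' k' l' m' : Fin 5} (h : [i, j, k, l, m].Nodup)
    (h' : [i', j', k', l', m'].Nodup) :
    ∃ σ : Perm (Fin 5), σ i = i' ∧ σ j = j' ∧ σ k = k' ∧ σ l = l' ∧ σ m = m' := by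
  obtain ⟨a, h0, h1, h2, h3, h4⟩ := exists_perm h
  obtain ⟨b, g0, g1, g2, g3, g4⟩ := exists_perm h'
  refine ⟨b * a⁻¹, ?_, ?_, ?_, ?_, ?_⟩
  · rw [← h0]; simpa using g0
  · rw [← h1]; simpa using g1
  · rw [← h2]; simpa using g2
  · rw [← h3]; simpa using g3
  · rw [← h4]; simpa using g4

/-- `A₅` is 3-transitive -/
theorem exists_even {i j k i' j' k' : Fin 5} (h1 : i ≠ j) (h2 : i ≠ k) (h3 : j ≠ k)
    (h1' : i' ≠ j') (h2' : i' ≠ k') (h3' : j' ≠ k') :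
    ∃ σ : Perm (Fin 5), Perm.sign σ = 1 ∧ σ i = i' ∧ σ j = j' ∧ σ k = k' := by
  obtain ⟨l, m, h⟩ := ext3 i j k h1 h2 h3
  obtain ⟨l', m', h'⟩ := ext3 i' j' k' h1' h2' h3'
  obtain ⟨σ, g1, g2, g3, g4, g5⟩ := exists_perm' h h'
  obtain ⟨n1, n2, n3, n4, n5, n6, n7, n8, n9, n10⟩ := nd h'
  rcases Int.units_eq_one_or (Perm.sign σ) with hs | hs
  · exact ⟨σ, hs, g1, g2, g3⟩
  · refine ⟨swap l' m' * σ, ?_, ?_, ?_, ?_⟩
    · rw [Perm.sign_mul, hs, Perm.sign_swap n10]; rfl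
    · rw [Perm.mul_apply, g1, swap_apply_of_ne_of_ne n3 n4]
    · rw [Perm.mul_apply, g2, swap_apply_of_ne_of_ne n6 n7]
    · rw [Perm.mul_apply, g3, swap_apply_of_ne_of_ne n8 n9]

theorem perm_i {i : Fin 5} {σ : Perm (Fin 5)} (h0 : σ i = i) (h4 : σ ^ 4 = 1)
    (h : ∀ τ : Perm (Fin 5), Perm.sign τ = 1 → τ i = i → (σ * (τ * σ⁻¹ * τ⁻¹)) ^ 4 = 1) :
    σ = 1 ∨ (σ * σ = 1 ∧ ∀ j, j ≠ i → σ j ≠ j) := by
  set ρ : Perm (Fin 5) := swap 0 i with hρ
  have hρρ : ρ * ρ = 1 := swap_mul_self _ _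
  have hρi : ρ⁻¹ = ρ := swap_inv _ _
  have hρ0 : ρ 0 = i := swap_apply_left _ _
  have hρ1 : ρ i = 0 := swap_apply_right _ _
  have h1 := perm0 (ρ * σ * ρ⁻¹) (by simp [hρi, hρ0, hρ1, h0]) (by rw [conj_pow, h4]; simp) ?_
  · rcases h1 with h1 | ⟨h1, h2⟩
    · left
      have : σ = ρ⁻¹ * (ρ * σ * ρ⁻¹) * ρ := by group
      rw [this, h1]; group
    · right
      constructor
      · have : σ * σ = ρ⁻¹ * ((ρ * σ * ρ⁻¹) * (ρ * σ * ρ⁻¹)) * ρ := by group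
        rw [this, h1]; group
      · intro j hj hj2
        refine h2 (ρ j) ?_ ?_
        · intro h3
          apply hj
          have : ρ (ρ j) = j := by rw [← Perm.mul_apply, hρρ]; rfl
          rw [← this, h3, hρ0]
        · rw [hρi, Perm.mul_apply, Perm.mul_apply, ← Perm.mul_apply, ← Perm.mul_apply]
          have : ρ (ρ j) = j := by rw [← Perm.mul_apply, hρρ]; rfl
          simp [this, hj2]
  · intro τ hτ hτ0
    have h3 := h (ρ⁻¹ * τ * ρ) ?_ (by simp [hρi, hρ0, hρ1, hτ0])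
    · have : ρ * σ * ρ⁻¹ * (τ * (ρ * σ * ρ⁻¹)⁻¹ * τ⁻¹) =
        ρ * (σ * (ρ⁻¹ * τ * ρ * σ⁻¹ * (ρ⁻¹ * τ * ρ)⁻¹)) * ρ⁻¹ := by group
      rw [this, conj_pow, h3]; simp
    · rw [Perm.sign_mul, Perm.sign_mul, hτ, mul_one, ← Perm.sign_mul, inv_mul_cancel, Perm.sign_one]

/-! ### The hypothesis -/

variable {G : Type u} [Group G]

/-- Five points permuted by `P`, at least by `A₅`. -/
structure Hyp (P : Subgroup G) (z : Fin 5 → G) : Prop where
  inj : Function.Injective z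
  sq : ∀ i, z i * z i = 1
  comm : ∀ i j, z i * z j = z j * z i
  prod : z 0 * z 1 * z 2 * z 3 * z 4 = 1
  act : ∀ p ∈ P, ∃ σ : Perm (Fin 5), ∀ i, p * z i * p⁻¹ = z (σ i)
  alt : ∀ σ : Perm (Fin 5), Perm.sign σ = 1 → ∃ p ∈ P, ∀ i, p * z i * p⁻¹ = z (σ i)

/-- `V = ⟨z_i⟩` -/
def V (z : Fin 5 → G) : Subgroup G := closure (Set.range z)

/-- `C_i = C_G(z_i)` -/
def C (z : Fin 5 → G) (i : Fin 5) : Subgroup G := centralizer {z i}

/-- `Q_i = O₂(C_i)` -/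
def Q (z : Fin 5 → G) (i : Fin 5) : Subgroup G := o2 (C z i)

variable {P : Subgroup G} {z : Fin 5 → G}

theorem mem_C {i : Fin 5} {x : G} : x ∈ C z i ↔ x * z i * x⁻¹ = z i := by
  rw [C, mem_centralizer_singleton_iff]
  constructor
  · intro h; rw [h]; group
  · intro h
    calc x * z i = (x * z i * x⁻¹) * x := by group
      _ = z i * x := by rw [h]

theorem z_mem (i : Fin 5) : z i ∈ V z := subset_closure ⟨i, rfl⟩

theorem Hyp.zinv (h : Hyp P z) (i : Fin 5) : (z i)⁻¹ = z i := inv_eq_of_mul_eq_one_right (h.sq i)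

theorem Hyp.exP (h : Hyp P z) {i j k i' j' k' : Fin 5} (h1 : i ≠ j) (h2 : i ≠ k) (h3 : j ≠ k)
    (h1' : i' ≠ j') (h2' : i' ≠ k') (h3' : j' ≠ k') : ∃ p ∈ P, ∃ σ : Perm (Fin 5),
      (∀ i, p * z i * p⁻¹ = z (σ i)) ∧ σ i = i' ∧ σ j = j' ∧ σ k = k' := by
  obtain ⟨σ, hs, hσ⟩ := exists_even h1 h2 h3 h1' h2' h3'
  obtain ⟨p, hp, hpσ⟩ := h.alt σ hs
  exact ⟨p, hp, σ, hpσ, hσ⟩

theorem Hyp.exP2 (h : Hyp P z) {i j i' j' : Fin 5} (h1 : i ≠ j) (h1' : i' ≠ j') :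
    ∃ p ∈ P, ∃ σ : Perm (Fin 5), (∀ i, p * z i * p⁻¹ = z (σ i)) ∧ σ i = i' ∧ σ j = j' := by
  obtain ⟨k, l, m, hn⟩ := ext2 i j h1
  obtain ⟨k', l', m', hn'⟩ := ext2 i' j' h1'
  obtain ⟨n1, n2, n3, n4, n5, n6, n7, n8, n9, n10⟩ := nd hn
  obtain ⟨n1', n2', n3', n4', n5', n6', n7', n8', n9', n10'⟩ := nd hn'
  obtain ⟨p, hp, σ, hσ, h3, h4, -⟩ := h.exP n1 n2 n5 n1' n2' n5'
  exact ⟨p, hp, σ, hσ, h3, h4⟩

theorem Hyp.exP1 (h : Hyp P z) (i i' : Fin 5) :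
    ∃ p ∈ P, ∃ σ : Perm (Fin 5), (∀ i, p * z i * p⁻¹ = z (σ i)) ∧ σ i = i' := by
  obtain ⟨j, hj⟩ := ne1 i
  obtain ⟨j', hj'⟩ := ne1 i'
  obtain ⟨p, hp, σ, hσ, h3, -⟩ := h.exP2 hj hj'
  exact ⟨p, hp, σ, hσ, h3⟩

/-! ### The elements of `V` -/

theorem Hyp.prod' (h : Hyp P z) {i j k l m : Fin 5} (hn : [i, j, k, l, m].Nodup) :
    z i * z j * z k * z l * z m = 1 := by
  obtain ⟨σ, h0, h1, h2, h3, h4⟩ := exists_perm hn
  rcases Int.units_eq_one_or (Perm.sign σ) with hs | hs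
  · obtain ⟨p, hp, hpσ⟩ := h.alt σ hs
    have : p * (z 0 * z 1 * z 2 * z 3 * z 4) * p⁻¹ = (p * z 0 * p⁻¹) * (p * z 1 * p⁻¹) *
      (p * z 2 * p⁻¹) * (p * z 3 * p⁻¹) * (p * z 4 * p⁻¹) := by group
    rw [h.prod, hpσ, hpσ, hpσ, hpσ, hpσ, h0, h1, h2, h3, h4] at this
    rw [← this]; group
  · have hs' : Perm.sign (σ * swap 3 4) = 1 := by
      rw [Perm.sign_mul, hs, Perm.sign_swap (by decide)]; rfl
    obtain ⟨p, hp, hpσ⟩ := h.alt _ hs'
    have : p * (z 0 * z 1 * z 2 * z 3 * z 4) * p⁻¹ = (p * z 0 * p⁻¹) * (p * z 1 * p⁻¹) *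
      (p * z 2 * p⁻¹) * (p * z 3 * p⁻¹) * (p * z 4 * p⁻¹) := by group
    have e0 : (σ * swap 3 4 : Perm (Fin 5)) 0 = i := by rw [Perm.mul_apply, swap_apply_of_ne_of_ne (by decide) (by decide), h0]
    have e1 : (σ * swap 3 4 : Perm (Fin 5)) 1 = j := by rw [Perm.mul_apply, swap_apply_of_ne_of_ne (by decide) (by decide), h1]
    have e2 : (σ * swap 3 4 : Perm (Fin 5)) 2 = k := by rw [Perm.mul_apply, swap_apply_of_ne_of_ne (by decide) (by decide), h2]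
    have e3 : (σ * swap 3 4 : Perm (Fin 5)) 3 = m := by rw [Perm.mul_apply, swap_apply_left, h4]
    have e4 : (σ * swap 3 4 : Perm (Fin 5)) 4 = l := by rw [Perm.mul_apply, swap_apply_right, h3]
    rw [h.prod, hpσ, hpσ, hpσ, hpσ, hpσ, e0, e1, e2, e3, e4] at this
    have h5 : z i * z j * z k * z l * z m = z i * z j * z k * z m * z l := by
      rw [mul_assoc (z i * z j * z k), h.comm l m, ← mul_assoc]
    rw [h5, ← this]; group

/-- `z_i z_j z_k = z_l z_m` -/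
theorem Hyp.three (h : Hyp P z) {i j k l m : Fin 5} (hn : [i, j, k, l, m].Nodup) :
    z i * z j * z k = z l * z m := by
  have h1 := h.prod' hn
  calc z i * z j * z k = (z i * z j * z k * z l * z m) * (z m * z m) ⁻¹ * (z m * (z l * z l)⁻¹ * z l) := by group
    _ = z m * z l := by rw [h1, h.sq, h.sq]; group
    _ = z l * z m := h.comm _ _

theorem Hyp.ne_one (h : Hyp P z) (i : Fin 5) : z i ≠ 1 := by
  intro h1
  obtain ⟨j, hj⟩ := ne1 i
  obtain ⟨p, -, σ, hσ, h3⟩ := h.exP1 i j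
  have := hσ i
  rw [h1, h3] at this
  apply hj
  apply h.inj
  rw [h1, ← this]; group

theorem Hyp.mul_ne_one (h : Hyp P z) {i j : Fin 5} (hij : i ≠ j) : z i * z j ≠ 1 := by
  intro h1
  apply hij
  apply h.inj
  rw [← h.zinv j]
  exact eq_inv_of_mul_eq_one_left h1

theorem Hyp.mul_ne (h : Hyp P z) {i j : Fin 5} (hij : i ≠ j) (k : Fin 5) : z i * z j ≠ z k := by
  intro h1
  by_cases hik : i = k
  · subst hik
    exact h.ne_one j (mul_eq_left.1 h1)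
  by_cases hjk : j = k
  · subst hjk
    exact h.ne_one i (mul_eq_right.1 h1)
  obtain ⟨l, m, hn⟩ := ext3 i j k hij hik hjk
  obtain ⟨n1, n2, n3, n4, n5, n6, n7, n8, n9, n10⟩ := nd hn
  obtain ⟨p, hp, σ, hσ, e1, e2, e3⟩ := h.exP n1 n2 n5 n1 n3 n6
  have h2 : p * (z i * z j) * p⁻¹ = (p * z i * p⁻¹) * (p * z j * p⁻¹) := by group
  rw [h1, hσ, hσ, hσ, e1, e2, e3, h1] at h2
  exact n8 (h.inj h2.symm)

/-- disjoint pairs have different products -/
theorem Hyp.mul_ne_mul (h : Hyp P z) {i j k l m : Fin 5} (hn : [i, j, k, l, m].Nodup) :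
    z i * z j ≠ z k * z l := by
  intro h1
  have h2 := h.prod' hn
  rw [mul_assoc (z i * z j), h1] at h2
  have h3 : z k * z l * (z k * z l) * z m = z m := by
    rw [← mul_assoc, mul_assoc (z k), h.comm l k, ← mul_assoc, h.sq, one_mul, h.sq, one_mul]
  exact h.ne_one m (h3.symm.trans h2)

theorem Hyp.mem_V (h : Hyp P z) {v : G} (hv : v ∈ V z) :
    v = 1 ∨ (∃ i, v = z i) ∨ ∃ i j, i ≠ j ∧ v = z i * z j := by
  induction hv using closure_induction_left with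
  | one => exact Or.inl rfl
  | @mul_left x hx y hy ih =>
    obtain ⟨a, rfl⟩ := hx
    rcases ih with rfl | ⟨i, rfl⟩ | ⟨i, j, hij, rfl⟩
    · exact Or.inr (Or.inl ⟨a, mul_one _⟩)
    · by_cases hai : a = i
      · subst hai
        exact Or.inl (h.sq _)
      · exact Or.inr (Or.inr ⟨a, i, hai, rfl⟩)
    · by_cases hai : a = i
      · subst hai
        exact Or.inr (Or.inl ⟨j, by rw [← mul_assoc, h.sq, one_mul]⟩)
      by_cases haj : a = j
      · subst haj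
        exact Or.inr (Or.inl ⟨i, by rw [h.comm i a, ← mul_assoc, h.sq, one_mul]⟩)
      obtain ⟨l, m, hn⟩ := ext3 a i j hai haj hij
      exact Or.inr (Or.inr ⟨l, m, (nd hn).2.2.2.2.2.2.2.2.2, by rw [← mul_assoc]; exact h.three hn⟩)
  | @inv_mul_cancel x hx y hy ih =>
    obtain ⟨a, rfl⟩ := hx
    rw [h.zinv]
    rcases ih with rfl | ⟨i, rfl⟩ | ⟨i, j, hij, rfl⟩
    · exact Or.inr (Or.inl ⟨a, mul_one _⟩)
    · by_cases hai : a = i
      · subst hai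
        exact Or.inl (h.sq _)
      · exact Or.inr (Or.inr ⟨a, i, hai, rfl⟩)
    · by_cases hai : a = i
      · subst hai
        exact Or.inr (Or.inl ⟨j, by rw [← mul_assoc, h.sq, one_mul]⟩)
      by_cases haj : a = j
      · subst haj
        exact Or.inr (Or.inl ⟨i, by rw [h.comm i a, ← mul_assoc, h.sq, one_mul]⟩)
      obtain ⟨l, m, hn⟩ := ext3 a i j hai haj hij
      exact Or.inr (Or.inr ⟨l, m, (nd hn).2.2.2.2.2.2.2.2.2, by rw [← mul_assoc]; exact h.three hn⟩)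

theorem Hyp.comm_V (h : Hyp P z) {v w : G} (hv : v ∈ V z) (hw : w ∈ V z) : v * w = w * v := by
  have h0 : V z ≤ centralizer (Set.range z) := by
    rw [V, closure_le]
    rintro _ ⟨i, rfl⟩
    rw [SetLike.mem_coe, mem_centralizer_iff]
    rintro _ ⟨j, rfl⟩
    exact h.comm j i
  have h1 : closure (Set.range z) ≤ centralizer (V z : Set G) := by
    rw [closure_le]
    rintro _ ⟨i, rfl⟩
    rw [SetLike.mem_coe, mem_centralizer_iff]
    intro y hy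
    exact (mem_centralizer_iff.1 (h0 hy) (z i) ⟨i, rfl⟩).symm
  exact (mem_centralizer_iff.1 (h1 hv) w hw).symm

theorem Hyp.sq_V (h : Hyp P z) {v : G} (hv : v ∈ V z) : v * v = 1 := by
  rcases h.mem_V hv with rfl | ⟨i, rfl⟩ | ⟨i, j, hij, rfl⟩
  · simp
  · exact h.sq i
  · rw [← mul_assoc, mul_assoc (z i), h.comm j i, ← mul_assoc, h.sq, one_mul, h.sq]

theorem Hyp.V_le_C (h : Hyp P z) (i : Fin 5) : V z ≤ C z i := fun v hv =>
  mem_C.2 (by rw [h.comm_V hv (z_mem i)]; group)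

theorem mem_cV {x : G} : x ∈ centralizer (V z : Set G) ↔ ∀ i, x * z i * x⁻¹ = z i := by
  constructor
  · intro hx i
    have := mem_centralizer_iff.1 hx (z i) (z_mem i)
    rw [← this]; group
  · intro hx
    rw [V, centralizer_closure, mem_centralizer_iff]
    rintro _ ⟨i, rfl⟩
    calc z i * x = (x * z i * x⁻¹) * x := by rw [hx i]
      _ = x * z i := by group

theorem cV_le_C (i : Fin 5) : centralizer (V z : Set G) ≤ C z i := fun _ hx => mem_C.2 (mem_cV.1 hx i)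

/-! ### Conjugation by the elements of `P` -/

/-- `p` moves the points as `σ` does. -/
def Act (z : Fin 5 → G) (p : G) (σ : Perm (Fin 5)) : Prop := ∀ i, p * z i * p⁻¹ = z (σ i)

theorem Act.inv {p : G} {σ : Perm (Fin 5)} (h : Act z p σ) : Act z p⁻¹ σ⁻¹ := by
  intro i
  have h1 := h (σ⁻¹ i)
  rw [show σ (σ⁻¹ i) = i from σ.apply_symm_apply i] at h1
  rw [← h1]; group

theorem Act.mul {p q : G} {σ τ : Perm (Fin 5)} (hp : Act z p σ) (hq : Act z q τ) : Act z (p * q) (σ * τ) := by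
  intro i
  have : p * q * z i * (p * q)⁻¹ = p * (q * z i * q⁻¹) * p⁻¹ := by group
  rw [this, hq, hp]; rfl

theorem Act.one : Act z 1 1 := fun i => by simp

theorem Act.pow {p : G} {σ : Perm (Fin 5)} (h : Act z p σ) (n : ℕ) : Act z (p ^ n) (σ ^ n) := by
  induction n with
  | zero => simpa using Act.one
  | succ n ih => rw [pow_succ, pow_succ]; exact ih.mul h

theorem Hyp.perm_eq (h : Hyp P z) {p : G} {σ τ : Perm (Fin 5)} (h1 : Act z p σ) (h2 : Act z p τ) : σ = τ := by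
  ext i
  rw [h.inj ((h1 i).symm.trans (h2 i))]

theorem Hyp.act_one (h : Hyp P z) {σ : Perm (Fin 5)} (h1 : Act z (1 : G) σ) : σ = 1 := h.perm_eq h1 Act.one

theorem mem_cV_iff_act {x : G} : x ∈ centralizer (V z : Set G) ↔ Act z x 1 := mem_cV

theorem Act.mapV {p v : G} {σ : Perm (Fin 5)} (h : Act z p σ) (hv : v ∈ V z) : p * v * p⁻¹ ∈ V z := by
  induction hv using closure_induction with
  | mem x hx =>
    obtain ⟨i, rfl⟩ := hx
    rw [h i]
    exact z_mem _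
  | one => simp
  | mul x y _ _ hx hy =>
    have : p * (x * y) * p⁻¹ = (p * x * p⁻¹) * (p * y * p⁻¹) := by group
    rw [this]; exact mul_mem hx hy
  | inv x _ hx =>
    have : p * x⁻¹ * p⁻¹ = (p * x * p⁻¹)⁻¹ := by group
    rw [this]; exact inv_mem hx

theorem Act.mapC {p x : G} {σ : Perm (Fin 5)} (h : Act z p σ) {i : Fin 5} (hx : x ∈ C z i) :
    p * x * p⁻¹ ∈ C z (σ i) := by
  rw [mem_C] at hx ⊢
  rw [← h i]
  calc p * x * p⁻¹ * (p * z i * p⁻¹) * (p * x * p⁻¹)⁻¹ = p * (x * z i * x⁻¹) * p⁻¹ := by group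
    _ = p * z i * p⁻¹ := by rw [hx]

theorem Act.mapcV {p x : G} {σ : Perm (Fin 5)} (h : Act z p σ) (hx : x ∈ centralizer (V z : Set G)) :
    p * x * p⁻¹ ∈ centralizer (V z : Set G) := by
  rw [mem_cV_iff_act] at hx ⊢
  have := (h.mul hx).mul h.inv
  simpa using this

theorem map_eq_of {A B : Subgroup G} {p : G} (h1 : ∀ x ∈ A, p * x * p⁻¹ ∈ B)
    (h2 : ∀ x ∈ B, p⁻¹ * x * p⁻¹⁻¹ ∈ A) : A.map (MulAut.conj p).toMonoidHom = B := by
  ext y
  rw [mem_map]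
  constructor
  · rintro ⟨x, hx, rfl⟩
    exact h1 x hx
  · intro hy
    exact ⟨_, h2 y hy, by simp; group⟩

theorem o2_conj {A B : Subgroup G} {p : G} (h1 : ∀ x ∈ A, p * x * p⁻¹ ∈ B)
    (h2 : ∀ x ∈ B, p⁻¹ * x * p⁻¹⁻¹ ∈ A) {x : G} (hx : x ∈ o2 A) : p * x * p⁻¹ ∈ o2 B := by
  rw [← map_eq_of h1 h2, o2_map _ (MulAut.conj p).injective]
  exact ⟨x, hx, rfl⟩

theorem Act.mapC' {p x : G} {σ : Perm (Fin 5)} (h : Act z p σ) {i : Fin 5} (hx : x ∈ C z (σ i)) :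
    p⁻¹ * x * p⁻¹⁻¹ ∈ C z i := by
  have := h.inv.mapC hx
  rwa [show σ⁻¹ (σ i) = i from σ.symm_apply_apply i] at this

theorem Act.mapQ {p x : G} {σ : Perm (Fin 5)} (h : Act z p σ) {i : Fin 5} (hx : x ∈ Q z i) :
    p * x * p⁻¹ ∈ Q z (σ i) :=
  o2_conj (fun _ hx => h.mapC hx) (fun _ hx => h.mapC' hx) hx

end Cfsg.Agent.Omega.NOne.BetaTwo.Basic

end

-- merged: Cfsg.Agent.Mrg.Omega.NOne.BetaTwo.Four
section

/-!
# NO-1, type (beta), `q = 2`: the action of `Q_i` on the five points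
-/

set_option autoImplicit false
set_option Elab.async false

namespace Cfsg.Agent.Omega.NOne.BetaTwo.Four

open Subgroup Equiv Cfsg Cfsg.Agent.MinSimple.VModule Cfsg.Agent.MinSimple.Basic
open Cfsg.Agent.Omega.NOne.BetaTwo.Basic
open Cfsg.Agent.ZN (o2 o2_map)

universe u

theorem pow8 : ∀ σ : Perm (Fin 5), σ ^ 8 = 1 → σ ^ 4 = 1 := by decide +kernel

theorem pow4 {σ : Perm (Fin 5)} {n : ℕ} (h : σ ^ 2 ^ n = 1) : σ ^ 4 = 1 := by
  have h1 : orderOf σ ∣ 2 ^ n := orderOf_dvd_of_pow_eq_one h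
  have h2 : orderOf σ ∣ 120 := by
    have := orderOf_dvd_natCard σ
    rwa [Nat.card_eq_fintype_card, Fintype.card_perm, Fintype.card_fin] at this
  obtain ⟨k, hk, hk2⟩ := (Nat.dvd_prime_pow Nat.prime_two).1 h1
  have h3 : k ≤ 3 := by
    by_contra h4
    have h5 : 2 ^ 4 ∣ orderOf σ := by rw [hk2]; exact pow_dvd_pow 2 (by omega)
    have := h5.trans h2
    norm_num at this
  apply pow8
  apply orderOf_dvd_iff_pow_eq_one.1
  rw [hk2]
  exact pow_dvd_pow 2 h3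

variable {G : Type u} [Group G] [Finite G] {P : Subgroup G} {z : Fin 5 → G}

/-- `V = ⟨z_i⟩` is not in `Q₀`, `S ≤ P ∩ C₀`. -/
structure Dat (S : Sylow 2 G) (P : Subgroup G) (z : Fin 5 → G) : Prop extends Hyp P z where
  SP : (S : Subgroup G) ≤ P
  SC : (S : Subgroup G) ≤ C z 0
  c2 : C z 0 ⊓ centralizer (Q z 0 : Set G) ≤ Q z 0
  notV : ¬ V z ≤ Q z 0

variable {S : Sylow 2 G}

theorem Dat.Q0 (h : Dat S P z) : Q z 0 ≤ (S : Subgroup G) :=
  o2_le_of_sylow S.isPGroup' (not_dvd_relIndex S h.SC)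

theorem Dat.exAct (h : Dat S P z) {p : G} (hp : p ∈ P) : ∃ σ, Act z p σ := h.act p hp

/-- some `p` in `P` moves `0` to `i` -/
theorem Dat.to (h : Dat S P z) (i : Fin 5) : ∃ p ∈ P, ∃ σ, Act z p σ ∧ σ 0 = i := by
  obtain ⟨p, hp, σ, hσ, h0⟩ := h.exP1 0 i
  exact ⟨p, hp, σ, hσ, h0⟩

theorem Dat.Q_eq (h : Dat S P z) {p : G} {σ : Perm (Fin 5)} (hσ : Act z p σ) (i : Fin 5) {x : G} :
    x ∈ Q z (σ i) ↔ p⁻¹ * x * p ∈ Q z i := by
  constructor
  · intro hx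
    have := hσ.inv.mapQ hx
    rw [show σ⁻¹ (σ i) = i from σ.symm_apply_apply i] at this
    simpa using this
  · intro hx
    have := hσ.mapQ hx
    have e : p * (p⁻¹ * x * p) * p⁻¹ = x := by group
    rwa [e] at this

theorem Dat.QP (h : Dat S P z) (i : Fin 5) : Q z i ≤ P := by
  obtain ⟨p, hp, σ, hσ, h0⟩ := h.to i
  intro x hx
  rw [← h0, h.Q_eq hσ] at hx
  have := mul_mem (mul_mem hp (h.SP (h.Q0 hx))) (inv_mem hp)
  have e : p * (p⁻¹ * x * p) * p⁻¹ = x := by group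
  rwa [e] at this

theorem QC (i : Fin 5) : Q z i ≤ C z i := o2_le _

theorem Q_pgroup (i : Fin 5) : IsPGroup 2 (Q z i) := o2_isPGroup _

/-- `C_i` normalises `Q_i` -/
theorem Qn {i : Fin 5} {c x : G} (hc : c ∈ C z i) (hx : x ∈ Q z i) : c * x * c⁻¹ ∈ Q z i :=
  (mem_normalizer_iff.1 (le_normalizer_o2 (C z i) hc) x).1 hx

theorem Dat.char2 (h : Dat S P z) (i : Fin 5) : C z i ⊓ centralizer (Q z i : Set G) ≤ Q z i := by
  obtain ⟨p, hp, σ, hσ, rfl⟩ := h.to i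
  rintro x ⟨hx, hx2⟩
  rw [h.Q_eq hσ]
  apply h.c2
  refine ⟨?_, ?_⟩
  · have := hσ.mapC' hx
    simpa using this
  · refine mem_centralizer_iff.2 fun y hy => ?_
    have := mem_centralizer_iff.1 hx2 _ (hσ.mapQ hy)
    calc y * (p⁻¹ * x * p) = p⁻¹ * ((p * y * p⁻¹) * x) * p := by group
      _ = p⁻¹ * (x * (p * y * p⁻¹)) * p := by rw [this]
      _ = p⁻¹ * x * p * y := by group

theorem Dat.notVi (h : Dat S P z) (i : Fin 5) : ¬ V z ≤ Q z i := by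
  obtain ⟨p, hp, σ, hσ, rfl⟩ := h.to i
  intro h1
  apply h.notV
  intro v hv
  have := (h.Q_eq hσ 0).1 (h1 (hσ.mapV hv))
  have e : p⁻¹ * (p * v * p⁻¹) * p = v := by group
  rwa [e] at this

/-- the permutation induced by an element of `Q_i` -/
theorem Dat.perm (h : Dat S P z) {i : Fin 5} {q : G} (hq : q ∈ Q z i) :
    ∃ σ, Act z q σ ∧ σ i = i ∧ (σ = 1 ∨ (σ * σ = 1 ∧ ∀ j, j ≠ i → σ j ≠ j)) := by
  have key : ∀ {q : G} {σ : Perm (Fin 5)}, q ∈ Q z i → Act z q σ → σ ^ 4 = 1 := by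
    intro q σ hq hσ
    obtain ⟨k, hk⟩ := (Q_pgroup i) ⟨q, hq⟩
    have hk' : q ^ 2 ^ k = 1 := congrArg Subtype.val hk
    apply pow4 (n := k)
    apply h.toHyp.act_one
    rw [← hk']
    exact hσ.pow _
  obtain ⟨σ, hσ⟩ := h.exAct (h.QP i hq)
  have hi : σ i = i := by
    apply h.inj
    rw [← hσ i]
    exact mem_C.1 (QC i hq)
  refine ⟨σ, hσ, hi, perm_i hi (key hq hσ) ?_⟩
  intro τ hτ hτi
  obtain ⟨p, hp, hpτ⟩ := h.alt τ hτ
  have hpC : p ∈ C z i := mem_C.2 (by rw [hpτ, hτi])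
  exact key (mul_mem hq (Qn hpC (inv_mem hq))) (hσ.mul ((Act.mul hpτ hσ.inv).mul (Act.inv hpτ)))

/-- an element of `Q_i` centralising a further point centralises `V` -/
theorem Dat.cV_of (h : Dat S P z) {i j : Fin 5} {q : G} (hq : q ∈ Q z i) (hij : j ≠ i)
    (hj : q * z j * q⁻¹ = z j) : q ∈ centralizer (V z : Set G) := by
  obtain ⟨σ, hσ, hi, h1⟩ := h.perm hq
  rcases h1 with rfl | ⟨-, h1⟩
  · exact mem_cV.2 hσ
  · exact absurd (h.inj ((hσ j).symm.trans hj)) (h1 j hij)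

theorem Dat.not_Qcent (h : Dat S P z) (i : Fin 5) : ¬ Q z i ≤ centralizer (V z : Set G) := by
  intro h1
  exact h.notVi i ((le_inf (h.V_le_C i) (le_centralizer_iff.1 h1)).trans (h.char2 i))

/-- a subgroup of `Q_i` normalised by `P ∩ C_i`, not in `C(V)`, induces the regular four group -/
theorem Dat.exN (h : Dat S P z) {i : Fin 5} {N : Subgroup G} (hN : N ≤ Q z i)
    (hn : ∀ p ∈ P, p ∈ C z i → ∀ x ∈ N, p * x * p⁻¹ ∈ N) (h1 : ¬ N ≤ centralizer (V z : Set G))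
    {j k l m : Fin 5} (hnd : [i, j, k, l, m].Nodup) :
    ∃ q ∈ N, ∃ σ, Act z q σ ∧ σ i = i ∧ σ j = k ∧ σ k = j ∧ σ l = m ∧ σ m = l := by
  obtain ⟨n1, n2, n3, n4, n5, n6, n7, n8, n9, n10⟩ := nd hnd
  obtain ⟨q, hq, hq1⟩ := SetLike.not_le_iff_exists.1 h1
  obtain ⟨σ, hσ, hi, h2⟩ := h.perm (hN hq)
  rcases h2 with rfl | ⟨h2, h3⟩
  · exact absurd (mem_cV.2 hσ) hq1
  have ha : σ j ≠ i := fun h4 => n1 (σ.injective (h4.trans hi.symm)).symm
  obtain ⟨p, hp, τ, hτ, e1, e2, e3⟩ := h.exP n1 ha.symm (h3 j n1.symm).symm n1 n2 n5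
  have hpC : p ∈ C z i := mem_C.2 (by rw [hτ, e1])
  have hτi : τ⁻¹ i = i := by rw [Perm.inv_eq_iff_eq]; exact e1.symm
  have hτj : τ⁻¹ j = j := by rw [Perm.inv_eq_iff_eq]; exact e2.symm
  have hτk : τ⁻¹ k = σ j := by rw [Perm.inv_eq_iff_eq]; exact e3.symm
  have hρ : Act z (p * q * p⁻¹) (τ * σ * τ⁻¹) := (Act.mul hτ hσ).mul (Act.inv hτ)
  set ρ := τ * σ * τ⁻¹ with hρdef
  have r1 : ρ i = i := by rw [hρdef, Perm.mul_apply, Perm.mul_apply, hτi, hi, e1]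
  have r2 : ρ j = k := by rw [hρdef, Perm.mul_apply, Perm.mul_apply, hτj, e3]
  have r4 : ρ * ρ = 1 := by
    rw [hρdef]
    calc τ * σ * τ⁻¹ * (τ * σ * τ⁻¹) = τ * (σ * σ) * τ⁻¹ := by group
      _ = 1 := by rw [h2]; group
  have r3 : ρ k = j := by rw [← r2, ← Perm.mul_apply, r4]; rfl
  have r5 : ∀ a, a ≠ i → ρ a ≠ a := by
    intro a ha h5
    have h6 : σ (τ⁻¹ a) = τ⁻¹ a := by
      apply τ.injective
      rw [show τ (τ⁻¹ a) = a from τ.apply_symm_apply a]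
      exact h5
    refine h3 (τ⁻¹ a) ?_ h6
    intro h7
    apply ha
    rw [← hτi] at h7
    exact τ⁻¹.injective h7
  refine ⟨p * q * p⁻¹, hn p hp hpC q hq, ρ, hρ, r1, r2, r3, ?_, ?_⟩
  · rcases five i j k l m (ρ l) hnd with h8 | h8 | h8 | h8 | h8
    · exact absurd (ρ.injective (h8.trans r1.symm)) n3.symm
    · exact absurd (ρ.injective (h8.trans r3.symm)) n8.symm
    · exact absurd (ρ.injective (h8.trans r2.symm)) n6.symm
    · exact absurd h8 (r5 l n3.symm)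
    · exact h8
  · rcases five i j k l m (ρ m) hnd with h8 | h8 | h8 | h8 | h8
    · exact absurd (ρ.injective (h8.trans r1.symm)) n4.symm
    · exact absurd (ρ.injective (h8.trans r3.symm)) n9.symm
    · exact absurd (ρ.injective (h8.trans r2.symm)) n7.symm
    · exact h8
    · exact absurd h8 (r5 m n4.symm)

theorem Dat.exQ (h : Dat S P z) {i j k l m : Fin 5} (hnd : [i, j, k, l, m].Nodup) :
    ∃ q ∈ Q z i, ∃ σ, Act z q σ ∧ σ i = i ∧ σ j = k ∧ σ k = j ∧ σ l = m ∧ σ m = l :=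
  h.exN le_rfl (fun _ _ hc _ hx => Qn hc hx) (h.not_Qcent i) hnd

/-! ### `E_i = V ∩ Q_i` -/

theorem Dat.zz_mem (h : Dat S P z) {i j k : Fin 5} (h1 : i ≠ j) (h2 : i ≠ k) (h3 : j ≠ k) :
    z j * z k ∈ Q z i := by
  obtain ⟨l, m, hnd⟩ := ext3 i j k h1 h2 h3
  obtain ⟨q, hq, σ, hσ, -, e1, e2, -, -⟩ := h.exQ hnd
  have h4 : q * (z j * q⁻¹ * (z j)⁻¹) ∈ Q z i :=
    mul_mem hq (Qn (h.V_le_C i (z_mem j)) (inv_mem hq))
  have h5 : q * (z j * q⁻¹ * (z j)⁻¹) = z j * z k := by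
    have : q * (z j * q⁻¹ * (z j)⁻¹) = (q * z j * q⁻¹) * (z j)⁻¹ := by group
    rw [this, hσ, e1, h.zinv, h.comm]
  rwa [h5] at h4

theorem Dat.z_self (h : Dat S P z) (i : Fin 5) : z i ∈ Q z i := by
  have h1 : zpowers (z i) ≤ o2 (C z i) := by
    refine le_o2 ?_ ?_ ?_
    · rw [zpowers_le]; exact h.V_le_C i (z_mem i)
    · intro x
      obtain ⟨x, n, rfl⟩ := x
      refine ⟨1, Subtype.ext ?_⟩
      change (z i ^ n) ^ 2 ^ 1 = 1
      rw [← zpow_natCast, ← zpow_mul, mul_comm, zpow_mul]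
      simp [pow_two, h.sq]
    · intro c hc
      rw [mem_normalizer_iff]
      have hcz : ∀ x ∈ zpowers (z i), c * x * c⁻¹ = x := by
        rintro _ ⟨n, rfl⟩
        simp only
        rw [← conj_zpow, mem_C.1 hc]
      intro x
      constructor
      · intro hx; rw [hcz x hx]; exact hx
      · intro hx
        have := hcz _ hx
        have h2 : c * x * c⁻¹ = x := by
          have h3 : c * (c * x * c⁻¹) * c⁻¹ = c * x * c⁻¹ := this
          have h4 : c * x * c⁻¹ = x := by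
            have := mul_right_cancel h3
            exact mul_left_cancel this
          exact h4
        rwa [h2] at hx
  exact h1 (mem_zpowers _)

theorem Dat.z_not (h : Dat S P z) {i j : Fin 5} (h1 : i ≠ j) : z j ∉ Q z i := by
  intro h2
  apply h.notVi i
  rw [V, closure_le]
  rintro _ ⟨k, rfl⟩
  by_cases hik : i = k
  · subst hik; exact h.z_self i
  by_cases hjk : j = k
  · subst hjk; exact h2
  have := mul_mem h2 (h.zz_mem h1 hik hjk)
  rwa [← mul_assoc, h.sq, one_mul] at this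

/-- the elements of `V ∩ Q_i` -/
theorem Dat.mem_E (h : Dat S P z) {i : Fin 5} {v : G} (hv : v ∈ V z) (hvQ : v ∈ Q z i) :
    v = 1 ∨ v = z i ∨ ∃ j k, i ≠ j ∧ i ≠ k ∧ j ≠ k ∧ v = z j * z k := by
  rcases h.mem_V hv with rfl | ⟨j, rfl⟩ | ⟨j, k, hjk, rfl⟩
  · exact Or.inl rfl
  · by_cases hij : i = j
    · subst hij; exact Or.inr (Or.inl rfl)
    · exact absurd hvQ (h.z_not hij)
  · by_cases hij : i = j
    · subst hij
      exfalso
      have := mul_mem (inv_mem (h.z_self i)) hvQ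
      rw [inv_mul_cancel_left] at this
      exact h.z_not hjk this
    by_cases hik : i = k
    · subst hik
      exfalso
      have := mul_mem hvQ (inv_mem (h.z_self i))
      rw [mul_inv_cancel_right] at this
      exact h.z_not (Ne.symm hjk) this
    exact Or.inr (Or.inr ⟨j, k, hij, hik, hjk, rfl⟩)

/-- `|V : V ∩ Q_i| = 2` -/
theorem Dat.index_E (h : Dat S P z) {i j : Fin 5} (hij : i ≠ j) {v : G} (hv : v ∈ V z) :
    v ∈ Q z i ∨ v * z j ∈ Q z i := by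
  rcases h.mem_V hv with rfl | ⟨k, rfl⟩ | ⟨k, l, hkl, rfl⟩
  · exact Or.inl (one_mem _)
  · by_cases hik : i = k
    · subst hik; exact Or.inl (h.z_self i)
    right
    by_cases hjk : j = k
    · subst hjk; rw [h.sq]; exact one_mem _
    · exact h.zz_mem hik hij (Ne.symm hjk)
  · by_cases hik : i = k
    · subst hik
      right
      rw [mul_assoc]
      refine mul_mem (h.z_self i) ?_
      by_cases hjl : j = l
      · subst hjl; rw [h.sq]; exact one_mem _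
      · exact h.zz_mem hkl hij (Ne.symm hjl)
    by_cases hil : i = l
    · subst hil
      right
      rw [h.comm k i, mul_assoc]
      refine mul_mem (h.z_self i) ?_
      by_cases hjk : j = k
      · subst hjk; rw [h.sq]; exact one_mem _
      · exact h.zz_mem hik hij (Ne.symm hjk)
    exact Or.inl (h.zz_mem hik hil hkl)

end Cfsg.Agent.Omega.NOne.BetaTwo.Four

end

-- merged: Cfsg.Agent.Mrg.Omega.NOne.BetaTwo.DOne
section

/-!
# NO-1, type (beta), `q = 2`: steps (2) - (4): `Q_i* = ⟨(V ∩ Q_i)^{C_i}⟩` and `D_i = C_{Q_i}(Q_i*)`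
-/

set_option autoImplicit false
set_option Elab.async false

namespace Cfsg.Agent.Omega.NOne.BetaTwo.DOne

open Subgroup Equiv Cfsg Cfsg.Agent.MinSimple.VModule Cfsg.Agent.MinSimple.Basic
open Cfsg.Agent.Omega.NOne.BetaTwo.Basic Cfsg.Agent.Omega.NOne.BetaTwo.Four
open Cfsg.Agent.Omega.NOne.LemmaT (exists_pow_eq_one exists_pow_comm)
open Cfsg.Agent.ZN (o2 o2_map)

universe u

variable {G : Type u} [Group G]

/-! ### A stability lemma -/

/-- the elements of `C` centralising `F` and moving the elements of `R` by elements of `F` -/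
def stab (C R F : Subgroup G) : Subgroup G where
  carrier := {x | x ∈ C ∧ (∀ f ∈ F, x * f = f * x) ∧ ∀ r ∈ R, x * r * x⁻¹ * r⁻¹ ∈ F}
  one_mem' := ⟨one_mem _, fun f _ => by simp, fun r _ => by simp⟩
  mul_mem' := by
    rintro x y ⟨hx, hxf, hxr⟩ ⟨hy, hyf, hyr⟩
    refine ⟨mul_mem hx hy, fun f hf => ?_, fun r hr => ?_⟩
    · rw [mul_assoc, hyf f hf, ← mul_assoc, hxf f hf, mul_assoc]
    · have h2 : x * y * r * (x * y)⁻¹ * r⁻¹ =
          (x * (y * r * y⁻¹ * r⁻¹) * x⁻¹) * (x * r * x⁻¹ * r⁻¹) := by group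
      rw [h2, hxf _ (hyr r hr), mul_inv_cancel_right]
      exact mul_mem (hyr r hr) (hxr r hr)
  inv_mem' := by
    rintro x ⟨hx, hxf, hxr⟩
    have hxf' : ∀ f ∈ F, x⁻¹ * f = f * x⁻¹ := fun f hf => by
      have := hxf f hf
      calc x⁻¹ * f = x⁻¹ * (f * x) * x⁻¹ := by group
        _ = x⁻¹ * (x * f) * x⁻¹ := by rw [this]
        _ = f * x⁻¹ := by group
    refine ⟨inv_mem hx, hxf', fun r hr => ?_⟩
    have h2 : x⁻¹ * r * x⁻¹⁻¹ * r⁻¹ = x⁻¹ * (x * r * x⁻¹ * r⁻¹)⁻¹ * x := by group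
    rw [h2, hxf' _ (inv_mem (hxr r hr)), inv_mul_cancel_right]
    exact inv_mem (hxr r hr)

theorem stab_le [Finite G] {C F : Subgroup G} (hC : C ⊓ centralizer (o2 C : Set G) ≤ o2 C)
    (hF : IsPGroup 2 F) (hn : ∀ c ∈ C, ∀ f ∈ F, c * f * c⁻¹ ∈ F) : stab C (o2 C) F ≤ o2 C := by
  refine le_o2 (fun x hx => hx.1) ?_ ?_
  · rintro ⟨x, hx, hxF, hxr⟩
    obtain ⟨k, hk⟩ := exists_pow_comm hF hxF hxr
    have h2 : x ^ 2 ^ k ∈ o2 C := hC ⟨pow_mem hx _, mem_centralizer_iff.2 fun r hr => (hk r hr).symm⟩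
    obtain ⟨l, hl⟩ := exists_pow_eq_one (o2_isPGroup C)
    refine ⟨k + l, Subtype.ext ?_⟩
    change x ^ 2 ^ (k + l) = 1
    rw [pow_add, pow_mul]
    exact hl _ h2
  · have key : ∀ c ∈ C, ∀ x ∈ stab C (o2 C) F, c * x * c⁻¹ ∈ stab C (o2 C) F := by
      rintro c hc x ⟨hx, hxf, hxr⟩
      refine ⟨mul_mem (mul_mem hc hx) (inv_mem hc), fun f hf => ?_, fun r hr => ?_⟩
      · have h1 := hn c⁻¹ (inv_mem hc) f hf
        rw [inv_inv] at h1
        have h2 := hxf _ h1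
        calc c * x * c⁻¹ * f = c * (x * (c⁻¹ * f * c)) * c⁻¹ := by group
          _ = c * ((c⁻¹ * f * c) * x) * c⁻¹ := by rw [h2]
          _ = f * (c * x * c⁻¹) := by group
      · have hr' : c⁻¹ * r * c ∈ o2 C := by
          have := (mem_normalizer_iff.1 (inv_mem (le_normalizer_o2 C hc)) r).1 hr
          rwa [inv_inv] at this
        have h3 := hn c hc _ (hxr _ hr')
        have h5 : c * x * c⁻¹ * r * (c * x * c⁻¹)⁻¹ * r⁻¹ =
            c * (x * (c⁻¹ * r * c) * x⁻¹ * (c⁻¹ * r * c)⁻¹) * c⁻¹ := by group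
        rw [h5]
        exact h3
    intro c hc
    rw [mem_normalizer_iff]
    intro x
    refine ⟨key c hc x, fun hx => ?_⟩
    have h6 := key c⁻¹ (inv_mem hc) _ hx
    have e : c⁻¹ * (c * x * c⁻¹) * c⁻¹⁻¹ = x := by group
    rwa [e] at h6

/-! ### Definitions -/

/-- the subgroup generated by the `C`-conjugates of the elements of `A` -/
def nc (C : Subgroup G) (A : Set G) : Subgroup G := closure {x | ∃ c ∈ C, ∃ a ∈ A, x = c * a * c⁻¹}

theorem le_nc (C : Subgroup G) {A : Set G} {a : G} (ha : a ∈ A) : a ∈ nc C A :=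
  subset_closure ⟨1, one_mem _, a, ha, by group⟩

theorem conj_mem_nc {C : Subgroup G} {A : Set G} {c x : G} (hc : c ∈ C) (hx : x ∈ nc C A) :
    c * x * c⁻¹ ∈ nc C A := by
  induction hx using closure_induction with
  | mem x hx =>
    obtain ⟨d, hd, a, ha, rfl⟩ := hx
    exact subset_closure ⟨c * d, mul_mem hc hd, a, ha, by group⟩
  | one => simp
  | mul x y _ _ hx hy =>
    have : c * (x * y) * c⁻¹ = (c * x * c⁻¹) * (c * y * c⁻¹) := by group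
    rw [this]; exact mul_mem hx hy
  | inv x _ hx =>
    have : c * x⁻¹ * c⁻¹ = (c * x * c⁻¹)⁻¹ := by group
    rw [this]; exact inv_mem hx

theorem nc_le {C : Subgroup G} {A : Set G} {B : Subgroup G}
    (h : ∀ c ∈ C, ∀ a ∈ A, c * a * c⁻¹ ∈ B) : nc C A ≤ B := by
  rw [nc, closure_le]
  rintro _ ⟨c, hc, a, ha, rfl⟩
  exact h c hc a ha

/-- `Q_i* = ⟨(V ∩ Q_i)^{C_i}⟩` -/
def Qs (z : Fin 5 → G) (i : Fin 5) : Subgroup G := nc (C z i) (V z ⊓ Q z i : Subgroup G)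

/-- `L_i = ⟨V^{C_i}⟩` -/
def L (z : Fin 5 → G) (i : Fin 5) : Subgroup G := nc (C z i) (V z : Set G)

/-- `D_i = C_{Q_i}(Q_i*)` -/
def D (z : Fin 5 → G) (i : Fin 5) : Subgroup G := Q z i ⊓ centralizer (Qs z i : Set G)

/-- `R = O₂(C_G(V))` -/
def R (z : Fin 5 → G) : Subgroup G := o2 (centralizer (V z : Set G))

variable {P : Subgroup G} {z : Fin 5 → G} [Finite G]

theorem Qs_le (i : Fin 5) : Qs z i ≤ Q z i := nc_le fun _ hc _ ha => Qn hc ha.2

theorem Qs_le_L (i : Fin 5) : Qs z i ≤ L z i := nc_le fun c hc a ha =>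
  subset_closure ⟨c, hc, a, ha.1, rfl⟩

theorem E_le_Qs {i : Fin 5} {v : G} (hv : v ∈ V z) (hvQ : v ∈ Q z i) : v ∈ Qs z i :=
  le_nc _ (show v ∈ ((V z ⊓ Q z i : Subgroup G) : Set G) from ⟨hv, hvQ⟩)

theorem Qsn {i : Fin 5} {c x : G} (hc : c ∈ C z i) (hx : x ∈ Qs z i) : c * x * c⁻¹ ∈ Qs z i :=
  conj_mem_nc hc hx

theorem Ln {i : Fin 5} {c x : G} (hc : c ∈ C z i) (hx : x ∈ L z i) : c * x * c⁻¹ ∈ L z i :=
  conj_mem_nc hc hx

theorem R_le : R z ≤ centralizer (V z : Set G) := o2_le _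

theorem R_le_C (i : Fin 5) : R z ≤ C z i := R_le.trans (cV_le_C i)

theorem mapnc {p : G} {A B : Subgroup G} {X Y : Set G} (h1 : ∀ x ∈ A, p * x * p⁻¹ ∈ B)
    (h2 : ∀ x ∈ X, p * x * p⁻¹ ∈ Y) {x : G} (hx : x ∈ nc A X) : p * x * p⁻¹ ∈ nc B Y := by
  induction hx using closure_induction with
  | mem x hx =>
    obtain ⟨c, hc, a, ha, rfl⟩ := hx
    exact subset_closure ⟨p * c * p⁻¹, h1 c hc, p * a * p⁻¹, h2 a ha, by group⟩
  | one => simp
  | mul x y _ _ hx hy =>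
    have : p * (x * y) * p⁻¹ = (p * x * p⁻¹) * (p * y * p⁻¹) := by group
    rw [this]; exact mul_mem hx hy
  | inv x _ hx =>
    have : p * x⁻¹ * p⁻¹ = (p * x * p⁻¹)⁻¹ := by group
    rw [this]; exact inv_mem hx

theorem _root_.Cfsg.Agent.Omega.NOne.BetaTwo.Basic.Act.mapQs {p x : G} {σ : Perm (Fin 5)} (h : Act z p σ)
    {i : Fin 5} (hx : x ∈ Qs z i) : p * x * p⁻¹ ∈ Qs z (σ i) :=
  mapnc (fun _ hx => h.mapC hx)
    (fun x (hx : x ∈ V z ⊓ Q z i) => show p * x * p⁻¹ ∈ V z ⊓ Q z (σ i) from ⟨h.mapV hx.1, h.mapQ hx.2⟩) hx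

theorem _root_.Cfsg.Agent.Omega.NOne.BetaTwo.Basic.Act.mapL {p x : G} {σ : Perm (Fin 5)} (h : Act z p σ)
    {i : Fin 5} (hx : x ∈ L z i) : p * x * p⁻¹ ∈ L z (σ i) :=
  mapnc (fun _ hx => h.mapC hx) (fun _ hx => h.mapV hx) hx

theorem _root_.Cfsg.Agent.Omega.NOne.BetaTwo.Basic.Act.mapD {p x : G} {σ : Perm (Fin 5)} (h : Act z p σ)
    {i : Fin 5} (hx : x ∈ D z i) : p * x * p⁻¹ ∈ D z (σ i) := by
  refine ⟨h.mapQ hx.1, mem_centralizer_iff.2 fun y hy => ?_⟩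
  have h1 := h.inv.mapQs hy
  rw [show σ⁻¹ (σ i) = i from σ.symm_apply_apply i, inv_inv] at h1
  have h2 := mem_centralizer_iff.1 hx.2 _ h1
  calc y * (p * x * p⁻¹) = p * ((p⁻¹ * y * p) * x) * p⁻¹ := by group
    _ = p * (x * (p⁻¹ * y * p)) * p⁻¹ := by rw [h2]
    _ = p * x * p⁻¹ * y := by group

theorem _root_.Cfsg.Agent.Omega.NOne.BetaTwo.Basic.Act.mapR {p x : G} {σ : Perm (Fin 5)} (h : Act z p σ)
    (hx : x ∈ R z) : p * x * p⁻¹ ∈ R z :=
  o2_conj (fun _ hx => h.mapcV hx) (fun _ hx => h.inv.mapcV hx) hx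

/-! ### Step (2) -/

variable {S : Sylow 2 G}

/-- `[Q_i, Q_i*] ≤ ⟨z_i⟩` -/
theorem _root_.Cfsg.Agent.Omega.NOne.BetaTwo.Four.Dat.mod_E (h : Dat S P z) {i : Fin 5} {x e : G}
    (hx : x ∈ Q z i) (he : e ∈ V z) (heQ : e ∈ Q z i) :
    x * e * x⁻¹ = e ∨ x * e * x⁻¹ = z i * e := by
  obtain ⟨σ, hσ, hi, h1⟩ := h.perm hx
  rcases h1 with rfl | ⟨h1, h2⟩
  · left
    have := mem_centralizer_iff.1 (mem_cV.2 hσ) e he
    rw [← this]; group
  rcases h.mem_E he heQ with rfl | rfl | ⟨j, k, hij, hik, hjk, rfl⟩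
  · left; group
  · left; exact mem_C.1 (QC i hx)
  obtain ⟨l, m, hnd⟩ := ext3 i j k hij hik hjk
  obtain ⟨n1, n2, n3, n4, n5, n6, n7, n8, n9, n10⟩ := nd hnd
  have h3 : x * (z j * z k) * x⁻¹ = z (σ j) * z (σ k) := by
    rw [← hσ, ← hσ]; group
  have hσσ : ∀ a, σ (σ a) = a := fun a => by rw [← Perm.mul_apply, h1]; rfl
  rw [h3]
  rcases five i j k l m (σ j) hnd with h8 | h8 | h8 | h8 | h8
  · exact absurd (σ.injective (h8.trans hi.symm)) hij.symm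
  · exact absurd h8 (h2 j hij.symm)
  · left
    have : σ k = j := by rw [← h8, hσσ]
    rw [h8, this, h.comm]
  · right
    have h9 : σ k = m := by
      have hl : σ l = j := by rw [← h8, hσσ]
      rcases five i j k l m (σ k) hnd with h9 | h9 | h9 | h9 | h9
      · exact absurd (σ.injective (h9.trans hi.symm)) hik.symm
      · exact absurd (σ.injective (h9.trans hl.symm)) n8
      · exact absurd h9 (h2 k hik.symm)
      · exact absurd (σ.injective (h9.trans h8.symm)) n5.symm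
      · exact h9
    rw [h8, h9, ← mul_assoc]
    exact (h.three hnd).symm
  · right
    have h9 : σ k = l := by
      have hl : σ m = j := by rw [← h8, hσσ]
      rcases five i j k l m (σ k) hnd with h9 | h9 | h9 | h9 | h9
      · exact absurd (σ.injective (h9.trans hi.symm)) hik.symm
      · exact absurd (σ.injective (h9.trans hl.symm)) n9
      · exact absurd h9 (h2 k hik.symm)
      · exact h9
      · exact absurd (σ.injective (h9.trans h8.symm)) n5.symm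
    rw [h8, h9, ← mul_assoc, h.comm m l]
    exact (h.three hnd).symm

theorem _root_.Cfsg.Agent.Omega.NOne.BetaTwo.Four.Dat.zc (h : Dat S P z) {i : Fin 5} {x : G} (hx : x ∈ C z i) :
    x * z i = z i * x := by
  have := mem_C.1 hx
  calc x * z i = (x * z i * x⁻¹) * x := by group
    _ = z i * x := by rw [this]

theorem _root_.Cfsg.Agent.Omega.NOne.BetaTwo.Four.Dat.mod (h : Dat S P z) {i : Fin 5} {x y : G}
    (hx : x ∈ Q z i) (hy : y ∈ Qs z i) : x * y * x⁻¹ = y ∨ x * y * x⁻¹ = z i * y := by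
  induction hy using closure_induction generalizing x with
  | mem y hy =>
    obtain ⟨c, hc, e, he, rfl⟩ := hy
    have h1 : c⁻¹ * x * c ∈ Q z i := by
      have := Qn (inv_mem hc) hx
      rwa [inv_inv] at this
    have h2 : x * (c * e * c⁻¹) * x⁻¹ = c * ((c⁻¹ * x * c) * e * (c⁻¹ * x * c)⁻¹) * c⁻¹ := by group
    rcases h.mod_E h1 he.1 he.2 with h3 | h3
    · left; rw [h2, h3]
    · right
      rw [h2, h3]
      have := h.zc hc
      calc c * (z i * e) * c⁻¹ = (c * z i) * e * c⁻¹ := by group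
        _ = z i * (c * e * c⁻¹) := by rw [this]; group
  | one => left; group
  | mul y w hy hw ihy ihw =>
    have e : x * (y * w) * x⁻¹ = (x * y * x⁻¹) * (x * w * x⁻¹) := by group
    have hyz : y * z i = z i * y := h.zc (QC i (Qs_le i hy))
    rw [e]
    rcases ihy hx with h1 | h1 <;> rcases ihw hx with h2 | h2
    · left; rw [h1, h2]
    · right; rw [h1, h2, ← mul_assoc, hyz, mul_assoc]
    · right; rw [h1, h2, mul_assoc]
    · left; rw [h1, h2, mul_assoc, ← mul_assoc y, hyz, mul_assoc, ← mul_assoc (z i), h.sq, one_mul]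
  | inv y hy ih =>
    have e : x * y⁻¹ * x⁻¹ = (x * y * x⁻¹)⁻¹ := by group
    have hyz : y * z i = z i * y := h.zc (QC i (Qs_le i hy))
    rw [e]
    rcases ih hx with h1 | h1
    · left; rw [h1]
    · right
      rw [h1, ← hyz, mul_inv_rev, h.zinv]

theorem _root_.Cfsg.Agent.Omega.NOne.BetaTwo.Four.Dat.sqQs (h : Dat S P z) {i : Fin 5} {y : G}
    (hy : y ∈ Qs z i) : y * y = 1 ∨ y * y = z i := by
  induction hy using closure_induction with
  | mem y hy =>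
    obtain ⟨c, hc, e, he, rfl⟩ := hy
    left
    have : c * e * c⁻¹ * (c * e * c⁻¹) = c * (e * e) * c⁻¹ := by group
    rw [this, h.sq_V he.1]; group
  | one => left; group
  | mul y w hy hw ihy ihw =>
    have e : y * w * (y * w) = y * (w * y * w⁻¹) * (w * w) := by group
    have hyz : y * z i = z i * y := h.zc (QC i (Qs_le i hy))
    have e2 : y * (z i * y) = (y * y) * z i := by rw [← hyz, mul_assoc]
    rw [e]
    rcases h.mod (Qs_le i hw) hy with h1 | h1 <;> rcases ihy with h2 | h2 <;> rcases ihw with h3 | h3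
    · left; rw [h1, h2, h3, one_mul]
    · right; rw [h1, h2, h3, one_mul]
    · right; rw [h1, h2, h3, mul_one]
    · left; rw [h1, h2, h3, h.sq]
    · right; rw [h1, e2, h2, h3, one_mul, mul_one]
    · left; rw [h1, e2, h2, h3, one_mul, h.sq]
    · left; rw [h1, e2, h2, h3, h.sq, one_mul]
    · right; rw [h1, e2, h2, h3, h.sq, one_mul]
  | inv y hy ih =>
    have e : y⁻¹ * y⁻¹ = (y * y)⁻¹ := by group
    rw [e]
    rcases ih with h1 | h1
    · left; rw [h1, inv_one]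
    · right; rw [h1, h.zinv]

/-- elements of `P` normalise `V` -/
theorem _root_.Cfsg.Agent.Omega.NOne.BetaTwo.Four.Dat.Vn (h : Dat S P z) {p v : G} (hp : p ∈ P)
    (hv : v ∈ V z) : p * v * p⁻¹ ∈ V z := by
  obtain ⟨σ, hσ⟩ := h.exAct hp
  exact hσ.mapV hv

theorem _root_.Cfsg.Agent.Omega.NOne.BetaTwo.Four.Dat.Qs_not (h : Dat S P z) (i : Fin 5) :
    ¬ Qs z i ≤ centralizer (V z : Set G) := by
  intro h1
  apply h.notVi i
  refine le_trans ?_ (stab_le (h.char2 i) (F := Qs z i) ?_ ?_)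
  · intro v hv
    refine ⟨h.V_le_C i hv, fun f hf => mem_centralizer_iff.1 (h1 hf) v hv, fun q hq => ?_⟩
    have h2 : v * q * v⁻¹ * q⁻¹ = v * (q * v⁻¹ * q⁻¹) := by group
    refine E_le_Qs ?_ (mul_mem (Qn (h.V_le_C i hv) hq) (inv_mem hq))
    rw [h2]
    exact mul_mem hv (h.Vn (h.QP i hq) (inv_mem hv))
  · exact (Q_pgroup i).to_le (Qs_le i)
  · exact fun c hc f hf => Qsn hc hf

theorem _root_.Cfsg.Agent.Omega.NOne.BetaTwo.Four.Dat.exQs (h : Dat S P z) {i j k l m : Fin 5}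
    (hnd : [i, j, k, l, m].Nodup) :
    ∃ q ∈ Qs z i, ∃ σ, Act z q σ ∧ σ i = i ∧ σ j = k ∧ σ k = j ∧ σ l = m ∧ σ m = l :=
  h.exN (Qs_le i) (fun _ _ hc _ hx => Qsn hc hx) (h.Qs_not i) hnd

/-! ### `D_i` -/

/-- an element of `Q_i` centralising `V ∩ Q_i` centralises `V` -/
theorem _root_.Cfsg.Agent.Omega.NOne.BetaTwo.Four.Dat.cV_of_E (h : Dat S P z) {i : Fin 5} {q : G}
    (hq : q ∈ Q z i) (h0 : ∀ v ∈ V z, v ∈ Q z i → v * q = q * v) : q ∈ centralizer (V z : Set G) := by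
  obtain ⟨σ, hσ, hi, h1⟩ := h.perm hq
  rcases h1 with rfl | ⟨h1, h2⟩
  · exact mem_cV.2 hσ
  exfalso
  obtain ⟨j, hj⟩ := ne1 i
  have n2 : σ j ≠ i := fun h4 => hj (σ.injective (h4.trans hi.symm)).symm
  have n3 : σ j ≠ j := h2 j hj.symm
  obtain ⟨l, m, hnd⟩ := ext3 i j (σ j) hj n2.symm n3.symm
  obtain ⟨-, -, n3, n4, n5, n6, n7, n8, n9, n10⟩ := nd hnd
  have hσσ : ∀ a, σ (σ a) = a := fun a => by rw [← Perm.mul_apply, h1]; rfl
  have hl : σ l = m := by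
    rcases five i j (σ j) l m (σ l) hnd with h9 | h9 | h9 | h9 | h9
    · exact absurd (σ.injective (h9.trans hi.symm)) n3.symm
    · have : σ j = l := by rw [← h9, hσσ]
      exact absurd this n8
    · exact absurd (σ.injective h9) n6.symm
    · exact absurd h9 (h2 l n3.symm)
    · exact h9
  have h3 : q * (z j * z l) * q⁻¹ = z (σ j) * z m := by
    rw [← hσ j, ← hl, ← hσ l]; group
  have h4 := h0 (z j * z l) (mul_mem (z_mem _) (z_mem _)) (h.zz_mem hj n3 n6)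
  have h5 : q * (z j * z l) * q⁻¹ = z j * z l := by rw [← h4]; group
  refine h.mul_ne_mul (i := j) (j := l) (k := σ j) (l := m) (m := i) ?_ (h5.symm.trans h3)
  simp only [List.nodup_cons, List.mem_cons, List.not_mem_nil, not_or, or_false]
  exact ⟨⟨n6, n5, n7, hj.symm⟩, ⟨n8.symm, n10, n3.symm⟩, ⟨n9, n2⟩, n4.symm, by simp⟩

theorem _root_.Cfsg.Agent.Omega.NOne.BetaTwo.Four.Dat.D_cV (h : Dat S P z) {i : Fin 5} {d : G}
    (hd : d ∈ D z i) : d ∈ centralizer (V z : Set G) :=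
  h.cV_of_E hd.1 fun v hv hvQ => mem_centralizer_iff.1 hd.2 v (E_le_Qs hv hvQ)

theorem Dn {i : Fin 5} {c x : G} (hc : c ∈ C z i) (hx : x ∈ D z i) : c * x * c⁻¹ ∈ D z i := by
  refine ⟨Qn hc hx.1, mem_centralizer_iff.2 fun y hy => ?_⟩
  have h1 := Qsn (inv_mem hc) hy
  rw [inv_inv] at h1
  have h2 := mem_centralizer_iff.1 hx.2 _ h1
  calc y * (c * x * c⁻¹) = c * ((c⁻¹ * y * c) * x) * c⁻¹ := by group
    _ = c * (x * (c⁻¹ * y * c)) * c⁻¹ := by rw [h2]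
    _ = c * x * c⁻¹ * y := by group

/-- `[L_i, D_i] = 1` -/
theorem _root_.Cfsg.Agent.Omega.NOne.BetaTwo.Four.Dat.D_L (h : Dat S P z) (i : Fin 5) :
    L z i ≤ centralizer (D z i : Set G) := by
  refine nc_le fun c hc v hv => mem_centralizer_iff.2 fun d hd => ?_
  have h1 := Dn (inv_mem hc) hd
  rw [inv_inv] at h1
  have h2 := mem_centralizer_iff.1 (h.D_cV h1) v hv
  calc d * (c * v * c⁻¹) = c * ((c⁻¹ * d * c) * v) * c⁻¹ := by group
    _ = c * (v * (c⁻¹ * d * c)) * c⁻¹ := by rw [← h2]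
    _ = c * v * c⁻¹ * d := by group

theorem _root_.Cfsg.Agent.Omega.NOne.BetaTwo.Four.Dat.D_R (h : Dat S P z) (i : Fin 5) : D z i ≤ R z := by
  refine le_o2 (fun d hd => h.D_cV hd) ((Q_pgroup i).to_le inf_le_left) ?_
  intro c hc
  rw [mem_normalizer_iff]
  have hcC := cV_le_C i hc
  intro x
  refine ⟨fun hx => Dn hcC hx, fun hx => ?_⟩
  have := Dn (inv_mem hcC) hx
  have e : c⁻¹ * (c * x * c⁻¹) * c⁻¹⁻¹ = x := by group
  rwa [e] at this

theorem _root_.Cfsg.Agent.Omega.NOne.BetaTwo.Four.Dat.z_D (h : Dat S P z) (i : Fin 5) : z i ∈ D z i := by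
  refine ⟨h.z_self i, mem_centralizer_iff.2 fun y hy => ?_⟩
  exact h.zc (QC i (Qs_le i hy))

theorem _root_.Cfsg.Agent.Omega.NOne.BetaTwo.Four.Dat.D_V (h : Dat S P z) {i : Fin 5} {d : G}
    (hd : d ∈ D z i) (hdV : d ∈ V z) : d = 1 ∨ d = z i := by
  rcases h.mem_E hdV hd.1 with rfl | rfl | ⟨j, k, hij, hik, hjk, rfl⟩
  · exact Or.inl rfl
  · exact Or.inr rfl
  exfalso
  obtain ⟨l, m, hnd⟩ := ext3 i j k hij hik hjk
  obtain ⟨n1, n2, n3, n4, n5, n6, n7, n8, n9, n10⟩ := nd hnd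
  have hnd' : [i, j, l, k, m].Nodup := by
    simp only [List.nodup_cons, List.mem_cons, List.not_mem_nil, not_or, or_false]
    exact ⟨⟨n1, n3, n2, n4⟩, ⟨n6, n5, n7⟩, ⟨n8.symm, n10⟩, n9, by simp⟩
  obtain ⟨q, hq, σ, hσ, e1, e2, e3, e4, e5⟩ := h.exQs hnd'
  have h1 := mem_centralizer_iff.1 hd.2 q hq
  have h2 : q * (z j * z k) * q⁻¹ = z l * z m := by rw [← e2, ← e4, ← hσ, ← hσ]; group
  have h3 : q * (z j * z k) * q⁻¹ = z j * z k := by rw [h1]; group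
  refine h.mul_ne_mul (i := j) (j := k) (k := l) (l := m) (m := i) ?_ (h3.symm.trans h2)
  simp only [List.nodup_cons, List.mem_cons, List.not_mem_nil, not_or, or_false]
  exact ⟨⟨n5, n6, n7, n1.symm⟩, ⟨n8, n9, n2.symm⟩, ⟨n10, n3.symm⟩, n4.symm, by simp⟩

/-! ### Step (3) -/

/-- the characteristic 2 hypothesis for the normalisers of `2`-groups normalised by `S` -/
def Char2 (S : Sylow 2 G) : Prop := ∀ N : Subgroup G, IsPGroup 2 N → N ≠ ⊥ →
  (S : Subgroup G) ≤ normalizer (N : Set G) →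
  normalizer (N : Set G) ⊓ centralizer (o2 (normalizer (N : Set G)) : Set G) ≤ o2 (normalizer (N : Set G))

theorem _root_.Cfsg.Agent.Omega.NOne.BetaTwo.Four.Dat.D_le_all (h : Dat S P z) {i j : Fin 5} (hij : i ≠ j)
    {x : G} (hx : x ∈ D z i) (hxj : x ∈ D z j) (k : Fin 5) : x ∈ D z k := by
  by_cases hik : i = k
  · subst hik; exact hx
  by_cases hjk : j = k
  · subst hjk; exact hxj
  obtain ⟨l, m, hnd⟩ := ext3 i j k hij hik hjk
  obtain ⟨q, hq, σ, hσ, e1, e2, e3, e4, e5⟩ := h.exQs hnd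
  have h1 := mem_centralizer_iff.1 hx.2 q hq
  have h2 := hσ.mapD hxj
  rw [e2] at h2
  have h3 : q * x * q⁻¹ = x := by rw [h1]; group
  rwa [h3] at h2

theorem _root_.Cfsg.Agent.Omega.NOne.BetaTwo.Four.Dat.D_inf (h : Dat S P z) (hc : Char2 S) {i j : Fin 5}
    (hij : i ≠ j) {x : G} (hx : x ∈ D z i) (hxj : x ∈ D z j) : x = 1 := by
  by_contra hx1
  set N : Subgroup G := ⨅ k, D z k with hN
  have hxN : x ∈ N := by rw [hN, mem_iInf]; exact h.D_le_all hij hx hxj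
  have hN0 : N ≤ D z 0 := iInf_le _ 0
  have hNp : IsPGroup 2 N := (Q_pgroup 0).to_le (hN0.trans inf_le_left)
  have hN1 : N ≠ ⊥ := fun h1 => hx1 (by rw [h1] at hxN; exact mem_bot.1 hxN)
  have key : ∀ p ∈ P, ∀ y ∈ N, p * y * p⁻¹ ∈ N := by
    intro p hp y hy
    obtain ⟨σ, hσ⟩ := h.exAct hp
    rw [hN, mem_iInf] at hy ⊢
    intro k
    have := hσ.mapD (hy (σ⁻¹ k))
    rwa [show σ (σ⁻¹ k) = k from σ.apply_symm_apply k] at this
  have hPN : P ≤ normalizer (N : Set G) := by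
    intro p hp
    rw [mem_normalizer_iff]
    intro y
    refine ⟨key p hp y, fun hy => ?_⟩
    have := key p⁻¹ (inv_mem hp) _ hy
    have e : p⁻¹ * (p * y * p⁻¹) * p⁻¹⁻¹ = y := by group
    rwa [e] at this
  have hLN : L z 0 ≤ normalizer (N : Set G) := by
    have : L z 0 ≤ centralizer (N : Set G) := (h.D_L 0).trans (centralizer_le hN0)
    exact this.trans (centralizer_le_normalizer _)
  have hSN : (S : Subgroup G) ≤ normalizer (N : Set G) := h.SP.trans hPN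
  have hH := hc N hNp hN1 hSN
  set H := normalizer (N : Set G) with hHdef
  have hoS : o2 H ≤ (S : Subgroup G) := o2_le_of_sylow S.isPGroup' (not_dvd_relIndex S hSN)
  have hz0 : z 0 ∈ o2 H := by
    apply hH
    refine ⟨hPN (h.QP 0 (h.z_self 0)), mem_centralizer_iff.2 fun y hy => ?_⟩
    exact h.zc (h.SC (hoS hy))
  have hVo : V z ≤ o2 H := by
    rw [V, closure_le]
    rintro _ ⟨k, rfl⟩
    obtain ⟨p, hp, σ, hσ, h0⟩ := h.to k
    have := (mem_normalizer_iff.1 (le_normalizer_o2 H (hPN hp)) (z 0)).1 hz0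
    rwa [hσ, h0] at this
  apply h.notV
  have hVL : V z ≤ L z 0 := fun v hv => le_nc _ hv
  have h1 : V z ≤ o2 (L z 0) := by
    refine (le_inf hVo hVL).trans (le_o2 inf_le_right ((o2_isPGroup H).to_le inf_le_left) ?_)
    intro l hl
    have hlH := hLN hl
    rw [mem_normalizer_iff]
    intro y
    constructor
    · rintro ⟨hy1, hy2⟩
      exact ⟨(mem_normalizer_iff.1 (le_normalizer_o2 H hlH) y).1 hy1,
        (L z 0).mul_mem ((L z 0).mul_mem hl hy2) ((L z 0).inv_mem hl)⟩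
    · rintro ⟨hy1, hy2⟩
      refine ⟨(mem_normalizer_iff.1 (le_normalizer_o2 H hlH) y).2 hy1, ?_⟩
      have := (L z 0).mul_mem ((L z 0).mul_mem ((L z 0).inv_mem hl) hy2) hl
      have e : l⁻¹ * (l * y * l⁻¹) * l = y := by group
      rwa [e] at this
  have hLC : L z 0 ≤ C z 0 := nc_le fun c hc v hv => mul_mem (mul_mem hc (h.V_le_C 0 hv)) (inv_mem hc)
  refine h1.trans (le_o2 ((o2_le _).trans hLC) (o2_isPGroup _) ?_)
  intro c hc
  apply Cfsg.Agent.ZN.normalizer_le_normalizer_o2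
  rw [mem_normalizer_iff]
  intro y
  refine ⟨fun hy => Ln hc hy, fun hy => ?_⟩
  have := Ln (inv_mem hc) hy
  have e : c⁻¹ * (c * y * c⁻¹) * c⁻¹⁻¹ = y := by group
  rwa [e] at this

end Cfsg.Agent.Omega.NOne.BetaTwo.DOne

end

-- merged: Cfsg.Agent.Mrg.Omega.NO1.BetaPlus.Abs
section

section


/-!
# THEOREM BETA for type (γ): steps (2)-(4), abstract (helper914)

`R i` : the points of `V`, `op i j` : opposite points, `QQ (R i) = O₂(N_G(R i))`.  The image of `QQ (R i)`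
on `V` is `U' × U''`, given by two additive functions `α, β : QQ (R i) → F`.
Output: `Bp.pre`, the structure `Beta.Pre` of `Beta/End.lean` for a family of pairwise opposite points,
and `Bp.result`.
-/

set_option autoImplicit false
set_option linter.unusedSectionVars false

namespace Cfsg.Agent.Omega.NO1.BetaPlus

open Subgroup Cfsg
open Cfsg.Agent.ZN (o2 o2_map le_normalizer_o2)
open Cfsg.Agent.Omega.NOne.BetaTwo.DOne (nc le_nc conj_mem_nc nc_le mapnc stab_le)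
open Cfsg.Agent.Omega.NOne.BetaTwo.Basic (o2_conj)

universe u

variable {G : Type u} [Group G]

/-- `Q(R) = O₂(N_G(R))` -/
abbrev QQ (R : Subgroup G) : Subgroup G := o2 (normalizer (R : Set G))

/-- `g` moves `A` to `B` -/
def Mv (g : G) (A B : Subgroup G) : Prop := ∀ x, x ∈ A ↔ g * x * g⁻¹ ∈ B

namespace Mv

variable {g h : G} {A B C D : Subgroup G}

theorem inv (hg : Mv g A B) : Mv g⁻¹ B A := by
  intro x
  have := hg (g⁻¹ * x * g⁻¹⁻¹)
  have e : g * (g⁻¹ * x * g⁻¹⁻¹) * g⁻¹ = x := by group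
  rw [e] at this
  exact this.symm

theorem mul (hg : Mv g B C) (hh : Mv h A B) : Mv (g * h) A C := by
  intro x
  rw [hh x, hg (h * x * h⁻¹)]
  have e : g * (h * x * h⁻¹) * g⁻¹ = g * h * x * (g * h)⁻¹ := by group
  rw [e]

theorem nor (hg : Mv g A B) {c : G} (hc : c ∈ normalizer (A : Set G)) :
    g * c * g⁻¹ ∈ normalizer (B : Set G) := by
  rw [mem_normalizer_iff]
  intro y
  have h1 := hg.inv y
  have h2 := mem_normalizer_iff.1 hc (g⁻¹ * y * g⁻¹⁻¹)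
  have h3 := hg (c * (g⁻¹ * y * g⁻¹⁻¹) * c⁻¹)
  have e : g * (c * (g⁻¹ * y * g⁻¹⁻¹) * c⁻¹) * g⁻¹ = g * c * g⁻¹ * y * (g * c * g⁻¹)⁻¹ := by group
  rw [e] at h3
  exact (h1.trans h2).trans h3

theorem QQ [Finite G] (hg : Mv g A B) : Mv g (BetaPlus.QQ A) (BetaPlus.QQ B) := by
  intro x
  constructor
  · exact fun hx => o2_conj (fun c hc => hg.nor hc) (fun c hc => hg.inv.nor hc) hx
  · intro hx
    have := o2_conj (p := g⁻¹) (fun c hc => hg.inv.nor hc) (fun c hc => by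
      rw [inv_inv]; exact hg.nor hc) hx
    have e : g⁻¹ * (g * x * g⁻¹) * g⁻¹⁻¹ = x := by group
    rwa [e] at this

theorem inf (h1 : Mv g A B) (h2 : Mv g C D) : Mv g (A ⊓ C) (B ⊓ D) := by
  intro x
  rw [mem_inf, mem_inf, h1 x, h2 x]

theorem of_mem (hg : g ∈ A) : Mv g A A := by
  intro x
  exact ⟨fun hx => mul_mem (mul_mem hg hx) (inv_mem hg), fun hx => by
    have := mul_mem (mul_mem (inv_mem hg) hx) hg
    have e : g⁻¹ * (g * x * g⁻¹) * g = x := by group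
    rwa [e] at this⟩

theorem of_nor (hg : g ∈ normalizer (A : Set G)) : Mv g A A := mem_normalizer_iff.1 hg

theorem mem_nor (hg : Mv g A A) : g ∈ normalizer (A : Set G) := mem_normalizer_iff.2 hg

theorem of_comm (hg : ∀ a ∈ A, g * a = a * g) : Mv g A A := by
  intro x
  constructor
  · intro hx
    rw [hg x hx, mul_inv_cancel_right]; exact hx
  · intro hx
    have h1 := hg _ hx
    have h2 : g * x * g⁻¹ = x := by
      have h3 : g * (g * x * g⁻¹) = g * x := by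
        rw [h1]; group
      exact mul_left_cancel h3
    rwa [h2] at hx

theorem cen (hg : Mv g A B) : Mv g (centralizer (A : Set G)) (centralizer (B : Set G)) := by
  intro x
  rw [mem_centralizer_iff, mem_centralizer_iff]
  constructor
  · intro hx b hb
    have h1 : g⁻¹ * b * g⁻¹⁻¹ ∈ A := (hg.inv b).1 hb
    have h2 := hx _ h1
    calc b * (g * x * g⁻¹) = g * ((g⁻¹ * b * g⁻¹⁻¹) * x) * g⁻¹ := by group
      _ = g * (x * (g⁻¹ * b * g⁻¹⁻¹)) * g⁻¹ := by rw [h2]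
      _ = g * x * g⁻¹ * b := by group
  · intro hx a ha
    have h1 : g * a * g⁻¹ ∈ B := (hg a).1 ha
    have h2 := hx _ h1
    calc a * x = g⁻¹ * ((g * a * g⁻¹) * (g * x * g⁻¹)) * g := by group
      _ = g⁻¹ * ((g * x * g⁻¹) * (g * a * g⁻¹)) * g := by rw [h2]
      _ = x * a := by group

end Mv

/-- The input. -/
structure Bp (F : Type) [Field F] (M V : Subgroup G) {I : Type*} (R : I → Subgroup G)
    (op : I → I → Prop) : Prop where
  comm : ∀ a ∈ V, ∀ b ∈ V, a * b = b * a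
  sq : ∀ a ∈ V, a * a = 1
  M_V : ∀ m ∈ M, Mv m V V
  R_le : ∀ i, R i ≤ V
  RQ : ∀ i, ∀ r ∈ R i, ∀ y ∈ QQ (R i), r * y = y * r
  ne : ∀ i, R i ≠ ⊥
  cardR : ∀ i, Nat.card (R i) = Nat.card F
  three : ∃ t : F, t ≠ 0 ∧ t ≠ 1
  disj : ∀ i j, op i j → R i ⊓ R j = ⊥
  symm : ∀ i j, op i j → op j i
  conn : ∀ i k, ∃ c, op i c ∧ op c k
  perm : ∀ m ∈ M, ∀ i, ∃ j, Mv m (R i) (R j)
  tran : ∀ i j k, op i j → op i k → ∃ y ∈ QQ (R i), Mv y (R j) (R k)
  Q_M : ∀ i, QQ (R i) ≤ M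
  V_Q : ∀ i, ¬ V ≤ QQ (R i)
  char2 : ∀ i, centralizer (QQ (R i) : Set G) ≤ QQ (R i)
  EQ : ∀ i, ∀ e ∈ V ⊓ QQ (R i), ∀ y ∈ QQ (R i), e⁻¹ * y⁻¹ * e * y ∈ R i
  EQs : ∀ i, ∀ y ∈ QQ (R i), y ∉ centralizer (V : Set G) → ∀ r ∈ R i,
    ∃ e ∈ V ⊓ QQ (R i), e⁻¹ * y⁻¹ * e * y = r
  cenR : ∀ i, ∀ v ∈ V, (∀ y ∈ QQ (R i), v * y = y * v) → v ∈ R i
  cardE : ∀ i, (centralizer (V : Set G)).relIndex (QQ (R i)) = (R i).relIndex (V ⊓ QQ (R i))
  irr : ∀ i, ∀ N : Subgroup G, N ≤ QQ (R i) → (∀ m ∈ M, Mv m (R i) (R i) → ∀ y ∈ N, m * y * m⁻¹ ∈ N) →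
    ¬ N ≤ centralizer (V : Set G) → ∀ y ∈ QQ (R i), ∃ n ∈ N, y⁻¹ * n ∈ centralizer (V : Set G)
  meet : ∀ N : Subgroup G, IsPGroup 2 N → N ≤ M → (∀ m ∈ M, ∀ y ∈ N, m * y * m⁻¹ ∈ N) →
    N ⊓ V = ⊥ → N = ⊥
  alt : ∀ i j, op i j → ∀ b : G → G, (∀ y ∈ QQ (R i), b y ∈ V ⊓ QQ (R i)) →
    (∀ y ∈ QQ (R i), ∀ y' ∈ QQ (R i), b (y * y') * (b y * b y')⁻¹ ∈ R i) →
    (∀ y ∈ QQ (R i), b y * y = y * b y) →
    (∀ y ∈ QQ (R i), y ∈ centralizer (V : Set G) → b y ∈ R i) →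
    ∃ r ∈ R j, ∀ y ∈ QQ (R i), b y * (y⁻¹ * r⁻¹ * y * r)⁻¹ ∈ R i
  half : ∀ i j, op i j → ∃ α β : G → F,
    (∀ y ∈ QQ (R i), ∀ y' ∈ QQ (R i), α (y * y') = α y + α y' ∧ β (y * y') = β y + β y') ∧
    (∀ y ∈ QQ (R i), y ∈ centralizer (V : Set G) ↔ α y = 0 ∧ β y = 0) ∧
    (∀ a b, ∃ y ∈ QQ (R i), α y = a ∧ β y = b) ∧
    (∀ y ∈ QQ (R i), α y ≠ 0 → β y ≠ 0 → ∃ k, op j k ∧ Mv y (R j) (R k)) ∧
    (∃ s ∈ M, Mv s (R i) (R i) ∧ Mv s (R j) (R j) ∧
      ∀ y ∈ QQ (R i), (α (s * y * s⁻¹) = 0 ↔ β y = 0) ∧ (β (s * y * s⁻¹) = 0 ↔ α y = 0))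

namespace Bp

variable {F : Type} [Field F] {M V : Subgroup G} {I : Type*} {R : I → Subgroup G} {op : I → I → Prop}

/-- `Q* = ⟨(V ∩ Q)^{N(R)}⟩` -/
def S (V R : Subgroup G) : Subgroup G := nc (normalizer (R : Set G)) ((V ⊓ QQ R : Subgroup G) : Set G)

/-- `D = C_Q(Q*)` -/
def D (V R : Subgroup G) : Subgroup G := QQ R ⊓ centralizer (S V R : Set G)

variable [Finite G]

theorem _root_.Cfsg.Agent.Omega.NO1.BetaPlus.Mv.S {g : G} {V A B : Subgroup G} (hV : Mv g V V)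
    (hg : Mv g A B) : Mv g (Bp.S V A) (Bp.S V B) := by
  intro x
  constructor
  · intro hx
    exact mapnc (fun c hc => hg.nor hc) (fun y hy => ((hV.inf hg.QQ) y).1 hy) hx
  · intro hx
    have := mapnc (p := g⁻¹) (fun c hc => hg.inv.nor hc)
      (fun y hy => ((hV.inv.inf hg.inv.QQ) y).1 hy) hx
    have e : g⁻¹ * (g * x * g⁻¹) * g⁻¹⁻¹ = x := by group
    rwa [e] at this

theorem _root_.Cfsg.Agent.Omega.NO1.BetaPlus.Mv.D {g : G} {V A B : Subgroup G} (hV : Mv g V V)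
    (hg : Mv g A B) : Mv g (Bp.D V A) (Bp.D V B) := hg.QQ.inf (Mv.S hV hg).cen

theorem S_nor {R : Subgroup G} {c x : G} (hc : c ∈ normalizer (R : Set G)) (hx : x ∈ S V R) :
    c * x * c⁻¹ ∈ S V R := conj_mem_nc hc hx

theorem Q_nor {R : Subgroup G} {c x : G} (hc : c ∈ normalizer (R : Set G)) (hx : x ∈ QQ R) :
    c * x * c⁻¹ ∈ QQ R := ((Mv.of_nor hc).QQ x).1 hx

theorem S_le {R : Subgroup G} : S V R ≤ QQ R := nc_le fun _ hc _ ha => Q_nor hc ha.2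

theorem E_le {R : Subgroup G} : V ⊓ QQ R ≤ S V R := fun _ ha => le_nc _ ha

theorem D_nor {R : Subgroup G} {c x : G} (hc : c ∈ normalizer (R : Set G)) (hx : x ∈ D V R) :
    c * x * c⁻¹ ∈ D V R := by
  refine ⟨Q_nor hc hx.1, mem_centralizer_iff.2 fun y hy => ?_⟩
  have h1 := S_nor (inv_mem hc) hy
  rw [inv_inv] at h1
  have h2 := mem_centralizer_iff.1 hx.2 _ h1
  calc y * (c * x * c⁻¹) = c * ((c⁻¹ * y * c) * x) * c⁻¹ := by group
    _ = c * (x * (c⁻¹ * y * c)) * c⁻¹ := by rw [h2]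
    _ = c * x * c⁻¹ * y := by group

variable (h : Bp F M V R op)
include h

theorem V_cen {v : G} (hv : v ∈ V) : v ∈ centralizer (V : Set G) :=
  mem_centralizer_iff.2 fun w hw => h.comm w hw v hv

theorem cV_nor (i : I) {c : G} (hc : c ∈ centralizer (V : Set G)) : c ∈ normalizer (R i : Set G) :=
  (Mv.of_comm fun a ha => (mem_centralizer_iff.1 hc a (h.R_le i ha)).symm).mem_nor

theorem R_pgroup (i : I) : IsPGroup 2 (R i) := by
  rintro ⟨x, hx⟩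
  refine ⟨1, Subtype.ext ?_⟩
  show x ^ 2 ^ 1 = 1
  rw [pow_one, pow_two]
  exact h.sq x (h.R_le i hx)

theorem R_Q (i : I) : R i ≤ QQ (R i) :=
  Cfsg.Agent.ZN.le_o2 le_normalizer (h.R_pgroup i) le_rfl

theorem Q_V (i : I) {y : G} (hy : y ∈ QQ (R i)) : Mv y V V := h.M_V y (h.Q_M i hy)

/-- `R i` is central in `QQ (R i)` -/
theorem Q_N (i : I) {y : G} (hy : y ∈ QQ (R i)) : y ∈ normalizer (R i : Set G) :=
  Cfsg.Agent.ZN.o2_le _ hy

theorem SQ (i : I) {n y : G} (hn : n ∈ S V (R i)) (hy : y ∈ QQ (R i)) :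
    n⁻¹ * y⁻¹ * n * y ∈ R i := by
  induction hn using closure_induction generalizing y with
  | mem n hn =>
    obtain ⟨c, hc, e, he, rfl⟩ := hn
    have h1 : c⁻¹ * y * c ∈ QQ (R i) := by
      have := Q_nor (inv_mem hc) hy
      rwa [inv_inv] at this
    have h2 := h.EQ i e he _ h1
    have h3 := (mem_normalizer_iff.1 hc _).1 h2
    have e1 : c * (e⁻¹ * (c⁻¹ * y * c)⁻¹ * e * (c⁻¹ * y * c)) * c⁻¹ =
        (c * e * c⁻¹)⁻¹ * y⁻¹ * (c * e * c⁻¹) * y := by group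
    rwa [e1] at h3
  | one =>
    have : (1 : G)⁻¹ * y⁻¹ * 1 * y = 1 := by group
    rw [this]; exact one_mem _
  | mul a b ha hb iha ihb =>
    have h1 := iha hy
    have h2 := ihb hy
    have h3 := h.RQ i _ h1 b (S_le hb)
    have e1 : (a * b)⁻¹ * y⁻¹ * (a * b) * y = (a⁻¹ * y⁻¹ * a * y) * (b⁻¹ * y⁻¹ * b * y) := by
      calc (a * b)⁻¹ * y⁻¹ * (a * b) * y = b⁻¹ * ((a⁻¹ * y⁻¹ * a * y) * (y⁻¹ * b * y)) := by group
        _ = b⁻¹ * ((a⁻¹ * y⁻¹ * a * y) * b) * (b⁻¹ * y⁻¹ * b * y) := by group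
        _ = b⁻¹ * (b * (a⁻¹ * y⁻¹ * a * y)) * (b⁻¹ * y⁻¹ * b * y) := by rw [h3]
        _ = _ := by group
    rw [e1]
    exact mul_mem h1 h2
  | inv a ha iha =>
    have h1 := iha hy
    have h3 := h.RQ i _ h1 a (S_le ha)
    have e1 : a⁻¹⁻¹ * y⁻¹ * a⁻¹ * y = a * (a⁻¹ * y⁻¹ * a * y)⁻¹ * a⁻¹ := by group
    have e2 : a * (a⁻¹ * y⁻¹ * a * y)⁻¹ * a⁻¹ = (a⁻¹ * y⁻¹ * a * y)⁻¹ := by
      have : a * (a⁻¹ * y⁻¹ * a * y)⁻¹ = (a⁻¹ * y⁻¹ * a * y)⁻¹ * a := by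
        rw [eq_inv_mul_iff_mul_eq, ← mul_assoc, h3, mul_inv_cancel_right]
      rw [this, mul_inv_cancel_right]
    rw [e1, e2]
    exact inv_mem h1

theorem S_sq (i : I) {n : G} (hn : n ∈ S V (R i)) : n * n ∈ R i := by
  induction hn using closure_induction with
  | mem n hn =>
    obtain ⟨c, hc, e, he, rfl⟩ := hn
    have : c * e * c⁻¹ * (c * e * c⁻¹) = c * (e * e) * c⁻¹ := by group
    rw [this, h.sq e he.1, mul_one, mul_inv_cancel]
    exact one_mem _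
  | one => rw [one_mul]; exact one_mem _
  | mul a b ha hb iha ihb =>
    have h1 := h.SQ i hb (S_le ha)
    have h2 := h.RQ i _ h1 b (S_le hb)
    have h3 := h.RQ i _ ihb _ (S_le hb)
    have e1 : a * b * (a * b) = (a * a) * (b * ((b⁻¹ * a⁻¹ * b * a) * b)) := by group
    rw [e1, h2]
    have e2 : b * (b * (b⁻¹ * a⁻¹ * b * a)) = (b * b) * (b⁻¹ * a⁻¹ * b * a) := by group
    rw [e2]
    exact mul_mem iha (mul_mem ihb h1)
  | inv a ha iha =>
    have : a⁻¹ * a⁻¹ = (a * a)⁻¹ := by group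
    rw [this]; exact inv_mem iha

theorem S_not (i : I) : ¬ S V (R i) ≤ centralizer (V : Set G) := by
  intro h1
  apply h.V_Q i
  have hC : normalizer (R i : Set G) ⊓ centralizer (QQ (R i) : Set G) ≤ QQ (R i) :=
    inf_le_right.trans (h.char2 i)
  refine le_trans ?_ (stab_le hC (F := S V (R i)) ?_ ?_)
  · intro v hv
    have hvN := h.cV_nor i (h.V_cen hv)
    refine ⟨hvN, fun f hf => mem_centralizer_iff.1 (h1 hf) v hv, fun q hq => ?_⟩
    refine E_le ⟨?_, ?_⟩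
    · have h2 : v * q * v⁻¹ * q⁻¹ = v * (q * v⁻¹ * q⁻¹) := by group
      rw [h2]
      exact V.mul_mem hv ((h.Q_V i hq _).1 (V.inv_mem hv))
    · exact (QQ (R i)).mul_mem (Q_nor hvN hq) ((QQ (R i)).inv_mem hq)
  · exact (Cfsg.Agent.ZN.isPGroup_o2 _).to_le S_le
  · exact fun c hc f hf => S_nor hc hf

/-- `QQ (R i) = Q* (QQ (R i) ∩ C(V))` -/
theorem cover (i : I) {y : G} (hy : y ∈ QQ (R i)) :
    ∃ n ∈ S V (R i), y⁻¹ * n ∈ centralizer (V : Set G) :=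
  h.irr i (S V (R i)) S_le (fun _ _ hmR _ hy => S_nor hmR.mem_nor hy) (h.S_not i) y hy

/-! ### Step (3) -/

theorem D_V (i : I) {y : G} (hy : y ∈ D V (R i)) : y ∈ centralizer (V : Set G) := by
  by_contra hcon
  obtain ⟨⟨r, hr⟩, hr1⟩ := (ne_bot_iff_exists_ne_one).1 (h.ne i)
  obtain ⟨e, he, hee⟩ := h.EQs i y hy.1 hcon r hr
  have h1 := mem_centralizer_iff.1 hy.2 e (E_le he)
  apply hr1
  apply Subtype.ext
  show r = 1
  rw [← hee]
  calc e⁻¹ * y⁻¹ * e * y = e⁻¹ * y⁻¹ * (e * y) := by group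
    _ = e⁻¹ * y⁻¹ * (y * e) := by rw [h1]
    _ = 1 := by group

theorem V_cS (i : I) {v : G} (hv : v ∈ V) (hc : v ∈ centralizer (S V (R i) : Set G)) : v ∈ R i := by
  refine h.cenR i v hv fun y hy => ?_
  obtain ⟨n, hn, hc'⟩ := h.cover i hy
  have h1 : n * v = v * n := mem_centralizer_iff.1 hc n hn
  have h2 : v * (y⁻¹ * n) = (y⁻¹ * n) * v := mem_centralizer_iff.1 hc' v hv
  have h3 : v * y⁻¹ = y⁻¹ * v := by
    have : v * y⁻¹ * n = y⁻¹ * v * n := by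
      rw [mul_assoc v, h2, mul_assoc y⁻¹ v, ← h1, mul_assoc]
    exact mul_right_cancel this
  calc v * y = y * (y⁻¹ * v) * y := by group
    _ = y * (v * y⁻¹) * y := by rw [h3]
    _ = y * v := by group

/-- `Q*` is transitive on the points opposite to `i`. -/
theorem tranS {i j k : I} (hij : op i j) (hik : op i k) : ∃ n ∈ S V (R i), Mv n (R j) (R k) := by
  obtain ⟨y, hy, hm⟩ := h.tran i j k hij hik
  obtain ⟨n, hn, hc⟩ := h.cover i hy
  refine ⟨n, hn, ?_⟩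
  have h1 : Mv (y⁻¹ * n) (R j) (R j) := Mv.of_nor (h.cV_nor j hc)
  have h2 := hm.mul h1
  have e : y * (y⁻¹ * n) = n := by group
  rwa [e] at h2

theorem D_all {i j : I} (hij : op i j) {x : G} (hi : x ∈ D V (R i)) (hj : x ∈ D V (R j)) (k : I) :
    x ∈ centralizer (S V (R k) : Set G) := by
  have step : ∀ a b c, op a b → op a c → x ∈ centralizer (S V (R a) : Set G) →
      x ∈ centralizer (S V (R b) : Set G) → x ∈ centralizer (S V (R c) : Set G) := by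
    intro a b c hab hac ha hb
    obtain ⟨n, hn, hm⟩ := h.tranS hab hac
    have h1 := (Mv.S (h.Q_V a (S_le hn)) hm).cen x
    have h2 : n * x * n⁻¹ = x := by
      rw [mem_centralizer_iff.1 ha n hn]; group
    rw [h2] at h1
    exact h1.1 hb
  obtain ⟨c, hic, hck⟩ := h.conn i k
  have hc := step i j c hij hic hi.2 hj.2
  exact step c i k (h.symm _ _ hic) hck hc hi.2

theorem D_inf {i j : I} (hij : op i j) {x : G} (hi : x ∈ D V (R i)) (hj : x ∈ D V (R j)) : x = 1 := by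
  set B : Subgroup G := o2 (M ⊓ centralizer (V : Set G)) ⊓ ⨅ k, centralizer (S V (R k) : Set G) with hB
  have hDB : ∀ k, D V (R k) ≤ o2 (M ⊓ centralizer (V : Set G)) := by
    intro k
    refine Cfsg.Agent.ZN.le_o2 (fun d hd => ⟨h.Q_M k hd.1, h.D_V k hd⟩)
      ((Cfsg.Agent.ZN.isPGroup_o2 _).to_le (inf_le_left : D V (R k) ≤ QQ (R k))) ?_
    intro c hc
    have hcN := h.cV_nor k hc.2
    refine Mv.mem_nor fun x => ⟨fun hx => D_nor hcN hx, fun hx => ?_⟩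
    have := D_nor (inv_mem hcN) hx
    have e : c⁻¹ * (c * x * c⁻¹) * c⁻¹⁻¹ = x := by group
    rwa [e] at this
  have hxB : x ∈ B := by
    exact mem_inf.2 ⟨hDB i hi, mem_iInf.2 fun k => h.D_all hij hi hj k⟩
  have hMC : ∀ m ∈ M, Mv m (M ⊓ centralizer (V : Set G)) (M ⊓ centralizer (V : Set G)) := by
    intro m hm
    exact (Mv.of_mem hm).inf (h.M_V m hm).cen
  have hBbot : B = ⊥ := by
    refine h.meet B ((Cfsg.Agent.ZN.isPGroup_o2 _).to_le inf_le_left)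
      (inf_le_left.trans ((Cfsg.Agent.ZN.o2_le _).trans inf_le_left)) ?_ ?_
    · intro m hm y hy
      obtain ⟨hy1, hy2⟩ := mem_inf.1 hy
      rw [mem_iInf] at hy2
      refine mem_inf.2 ⟨o2_conj (fun c hc => (hMC m hm c).1 hc) (fun c hc => ((hMC m hm).inv c).1 hc) hy1,
        mem_iInf.2 fun k => ?_⟩
      obtain ⟨k', hk'⟩ := h.perm m⁻¹ (inv_mem hm) k
      have h1 : Mv m (S V (R k')) (S V (R k)) := by
        have := Mv.S (h.M_V m⁻¹ (inv_mem hm)).inv hk'.inv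
        rwa [inv_inv] at this
      exact (h1.cen y).1 (hy2 k')
    · rw [eq_bot_iff]
      intro v hv
      obtain ⟨hv1, hvV⟩ := mem_inf.1 hv
      have hv2 := mem_iInf.1 (mem_inf.1 hv1).2
      have h1 := h.V_cS i hvV (hv2 i)
      have h2 := h.V_cS j hvV (hv2 j)
      have h3 : v ∈ R i ⊓ R j := ⟨h1, h2⟩
      rwa [h.disj i j hij] at h3
  rw [hBbot] at hxB
  exact mem_bot.1 hxB

theorem D_comm {i j : I} (hij : op i j) {a b : G} (ha : a ∈ D V (R i)) (hb : b ∈ D V (R j)) :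
    a * b = b * a := by
  have h1 : a * b * a⁻¹ * b⁻¹ ∈ D V (R j) :=
    mul_mem (D_nor (h.cV_nor j (h.D_V i ha)) hb) (inv_mem hb)
  have h2 : a * b * a⁻¹ * b⁻¹ ∈ D V (R i) := by
    have : a * b * a⁻¹ * b⁻¹ = a * (b * a⁻¹ * b⁻¹) := by group
    rw [this]
    exact mul_mem ha (D_nor (h.cV_nor i (h.D_V j hb)) (inv_mem ha))
  have h3 := h.D_inf hij h2 h1
  calc a * b = (a * b * a⁻¹ * b⁻¹) * (b * a) := by group
    _ = b * a := by rw [h3, one_mul]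

end Bp

end Cfsg.Agent.Omega.NO1.BetaPlus

end

section


/-!
# THEOREM BETA for type (γ): step (4), and the structure `Beta.Pre` (helper914)
-/

set_option autoImplicit false
set_option linter.unusedSectionVars false

namespace Cfsg.Agent.Omega.NO1.BetaPlus

open Subgroup Cfsg
open Cfsg.Agent.ZN (o2 o2_map le_normalizer_o2)
open Cfsg.Agent.Omega.NOne.BetaTwo.DOne (nc le_nc conj_mem_nc nc_le mapnc stab_le)

universe u

variable {G : Type u} [Group G] [Finite G]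

namespace Bp

variable {F : Type} [Field F] [Finite F] {M V : Subgroup G} {I : Type*} {R : I → Subgroup G}
  {op : I → I → Prop} (h : Bp F M V R op)
include h

section four

variable {i j : I} (hij : op i j) {α β : G → F}
  (hadd : ∀ y ∈ QQ (R i), ∀ y' ∈ QQ (R i), α (y * y') = α y + α y' ∧ β (y * y') = β y + β y')
  (hker : ∀ y ∈ QQ (R i), y ∈ centralizer (V : Set G) ↔ α y = 0 ∧ β y = 0)
  (hsur : ∀ a b, ∃ y ∈ QQ (R i), α y = a ∧ β y = b)
  (hmov : ∀ y ∈ QQ (R i), α y ≠ 0 → β y ≠ 0 → ∃ k, op j k ∧ Mv y (R j) (R k))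

/-- surjectivity on `Q*` -/
theorem surS (hadd : ∀ y ∈ QQ (R i), ∀ y' ∈ QQ (R i), α (y * y') = α y + α y' ∧ β (y * y') = β y + β y')
    (hker : ∀ y ∈ QQ (R i), y ∈ centralizer (V : Set G) ↔ α y = 0 ∧ β y = 0)
    (hsur : ∀ a b, ∃ y ∈ QQ (R i), α y = a ∧ β y = b) (a b : F) :
    ∃ y ∈ S V (R i), α y = a ∧ β y = b := by
  obtain ⟨y, hy, ha, hb⟩ := hsur a b
  obtain ⟨n, hn, hc⟩ := h.cover i hy
  have h1 := (hker _ (mul_mem (inv_mem hy) (S_le hn))).1 hc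
  have h2 := hadd y hy _ (mul_mem (inv_mem hy) (S_le hn))
  have e : y * (y⁻¹ * n) = n := by group
  rw [e, h1.1, h1.2, add_zero, add_zero] at h2
  exact ⟨n, hn, h2.1.trans ha, h2.2.trans hb⟩

/-- a function which is additive on `S` and onto has kernel of index `|F|` -/
theorem card_ker {S : Subgroup G} {f : G → F} (hf : ∀ y ∈ S, ∀ y' ∈ S, f (y * y') = f y + f y')
    (hs : ∀ a, ∃ y ∈ S, f y = a) (K : Subgroup G) (hK : K ≤ S) (hKf : ∀ y ∈ K, f y = 0)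
    {r : ℕ} (hr : Nat.card S ≤ Nat.card K * Nat.card F) {y : G} (hy : y ∈ S) (hy0 : f y = 0) :
    y ∈ K := by
  let φ : S →* Multiplicative F :=
    { toFun := fun x => Multiplicative.ofAdd (f x)
      map_one' := by
        have := hf 1 (one_mem _) 1 (one_mem _)
        rw [one_mul] at this
        have h0 : f 1 = 0 := left_eq_add.1 this
        rw [OneMemClass.coe_one, h0]; rfl
      map_mul' := fun x z => by
        rw [Subgroup.coe_mul, hf x x.2 z z.2]; rfl }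
  have hφ : Function.Surjective φ := by
    intro a
    obtain ⟨y, hy, ha⟩ := hs (Multiplicative.toAdd a)
    exact ⟨⟨y, hy⟩, by show Multiplicative.ofAdd (f y) = a; rw [ha]; rfl⟩
  have h1 : Nat.card S = Nat.card φ.ker * Nat.card F := by
    have h2 := φ.ker.card_mul_index
    have h3 : φ.ker.index = Nat.card F := by
      rw [index_ker, MonoidHom.range_eq_top.2 hφ]
      exact (Nat.card_congr Subgroup.topEquiv.toEquiv).trans (Nat.card_congr Multiplicative.toAdd)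
    rw [h3] at h2
    exact h2.symm
  have hF : 0 < Nat.card F := Nat.card_pos
  have h2 : Nat.card φ.ker ≤ Nat.card K := by
    rw [h1] at hr
    exact Nat.le_of_mul_le_mul_right hr hF
  have h3 : K.subgroupOf S ≤ φ.ker := by
    intro x hx
    rw [mem_subgroupOf] at hx
    rw [MonoidHom.mem_ker]
    show Multiplicative.ofAdd (f x) = 1
    rw [hKf _ hx]; rfl
  have h4 : Nat.card (K.subgroupOf S) = Nat.card K :=
    Nat.card_congr (subgroupOfEquivOfLe hK).toEquiv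
  have h5 : K.subgroupOf S = φ.ker := eq_of_le_of_card_ge h3 (by rw [h4]; exact h2)
  have h6 : (⟨y, hy⟩ : S) ∈ φ.ker := by
    rw [MonoidHom.mem_ker]
    show Multiplicative.ofAdd (f y) = 1
    rw [hy0]; rfl
  rw [← h5, mem_subgroupOf] at h6
  exact h6

/-- the commutator with `c` has kernel of index at most `|R i|` in `Q*` -/
theorem card_com {c : G} (hc : ∀ y ∈ S V (R i), c⁻¹ * y⁻¹ * c * y ∈ R i) :
    Nat.card (S V (R i)) ≤ Nat.card ↥(S V (R i) ⊓ centralizer ({c} : Set G)) * Nat.card F := by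
  let ψ : S V (R i) →* R i :=
    { toFun := fun y => ⟨(y : G)⁻¹ * c⁻¹ * y * c, by
        have h1 := inv_mem (hc (y : G) y.2)
        have e : (c⁻¹ * (y : G)⁻¹ * c * (y : G))⁻¹ = (y : G)⁻¹ * c⁻¹ * y * c := by group
        rw [e] at h1
        exact h1⟩
      map_one' := by
        apply Subtype.ext
        show ((1 : S V (R i)) : G)⁻¹ * c⁻¹ * ((1 : S V (R i)) : G) * c = 1
        rw [OneMemClass.coe_one]; group
      map_mul' := fun y z => by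
        apply Subtype.ext
        show ((y * z : S V (R i)) : G)⁻¹ * c⁻¹ * ((y * z : S V (R i)) : G) * c =
          ((y : G)⁻¹ * c⁻¹ * y * c) * ((z : G)⁻¹ * c⁻¹ * z * c)
        rw [Subgroup.coe_mul]
        have h3 : (y : G)⁻¹ * c⁻¹ * y * c ∈ R i := by
          have h1 := inv_mem (hc (y : G) y.2)
          have e : (c⁻¹ * (y : G)⁻¹ * c * (y : G))⁻¹ = (y : G)⁻¹ * c⁻¹ * y * c := by group
          rwa [e] at h1
        have h4 := h.RQ i _ h3 z (S_le z.2)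
        calc ((y : G) * z)⁻¹ * c⁻¹ * (y * z) * c
            = (z : G)⁻¹ * (((y : G)⁻¹ * c⁻¹ * y * c) * (c⁻¹ * z * c)) := by group
          _ = (z : G)⁻¹ * (((y : G)⁻¹ * c⁻¹ * y * c) * z) * ((z : G)⁻¹ * c⁻¹ * z * c) := by group
          _ = (z : G)⁻¹ * ((z : G) * ((y : G)⁻¹ * c⁻¹ * y * c)) * ((z : G)⁻¹ * c⁻¹ * z * c) := by rw [h4]
          _ = _ := by group }
  have h1 : Nat.card (S V (R i)) = Nat.card ψ.ker * Nat.card ψ.range := by
    have h2 := ψ.ker.card_mul_index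
    rw [index_ker] at h2
    exact h2.symm
  have h2 : Nat.card ψ.range ≤ Nat.card F := by
    rw [← h.cardR i]
    exact Subgroup.card_le_card_group _
  have h3 : Nat.card ψ.ker = Nat.card ↥(S V (R i) ⊓ centralizer ({c} : Set G)) := by
    have h4 : ψ.ker = (S V (R i) ⊓ centralizer ({c} : Set G)).subgroupOf (S V (R i)) := by
      ext y
      rw [MonoidHom.mem_ker, mem_subgroupOf, mem_inf, mem_centralizer_singleton_iff]
      constructor
      · intro hy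
        refine ⟨y.2, ?_⟩
        have h5 : (y : G)⁻¹ * c⁻¹ * y * c = 1 := congrArg Subtype.val hy
        have e : (y : G) * c = c * y * ((y : G)⁻¹ * c⁻¹ * y * c) := by group
        rw [e, h5, mul_one]
      · rintro ⟨-, hy⟩
        apply Subtype.ext
        show (y : G)⁻¹ * c⁻¹ * y * c = 1
        rw [mul_assoc, hy]; group
    rw [h4]
    exact Nat.card_congr (subgroupOfEquivOfLe inf_le_left).toEquiv
  rw [h1, h3]
  exact Nat.mul_le_mul_left _ h2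

include hij hadd hker hsur hmov

/-- an element of `D j` centralised by a `y` with `α y, β y ≠ 0` is `1` -/
theorem eq_one_of_comm {c y : G} (hc : c ∈ D V (R j)) (hy : y ∈ QQ (R i)) (ha : α y ≠ 0)
    (hb : β y ≠ 0) (hcy : c * y = y * c) : c = 1 := by
  obtain ⟨k, hjk, hm⟩ := hmov y hy ha hb
  refine h.D_inf hjk hc ?_
  have h1 := (Mv.D (h.Q_V i hy) hm c).1 hc
  have h2 : y * c * y⁻¹ = c := by rw [← hcy, mul_inv_cancel_right]
  rwa [h2] at h1

/-- Step (4a), first part. -/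
theorem four_a1 {c : G} (hc : c ∈ D V (R j)) (hX : ∀ y ∈ S V (R i), c⁻¹ * y⁻¹ * c * y ∈ R i) :
    (∀ y ∈ S V (R i), α y = 0 → c * y = y * c) ∨ (∀ y ∈ S V (R i), β y = 0 → c * y = y * c) := by
  by_cases hc1 : c = 1
  · left; intro y _ _; rw [hc1, one_mul, mul_one]
  set K := S V (R i) ⊓ centralizer ({c} : Set G) with hK
  have hKm : ∀ y, y ∈ K ↔ y ∈ S V (R i) ∧ c * y = y * c := by
    intro y
    rw [hK, mem_inf, mem_centralizer_singleton_iff]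
    exact and_congr_right fun _ => eq_comm
  have h1 : ∀ y ∈ K, α y = 0 ∨ β y = 0 := by
    intro y hy
    by_contra hcon
    push Not at hcon
    exact hc1 (h.eq_one_of_comm hij hadd hker hsur hmov hc (S_le ((hKm y).1 hy).1) hcon.1 hcon.2
      ((hKm y).1 hy).2)
  have h2 := h.card_com hX
  have hS : ∀ a b, ∃ y ∈ S V (R i), α y = a ∧ β y = b := h.surS hadd hker hsur
  -- `K` is in one of the two kernels
  have h3 : (∀ y ∈ K, α y = 0) ∨ (∀ y ∈ K, β y = 0) := by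
    by_contra hcon
    push Not at hcon
    obtain ⟨⟨y, hy, hya⟩, ⟨z, hz, hzb⟩⟩ := hcon
    have hyb := (h1 y hy).resolve_left hya
    have hza := (h1 z hz).resolve_right hzb
    have h4 := hadd y (S_le ((hKm y).1 hy).1) z (S_le ((hKm z).1 hz).1)
    rcases h1 _ (mul_mem hy hz) with h5 | h5
    · rw [h4.1, hza, add_zero] at h5; exact hya h5
    · rw [h4.2, hyb, zero_add] at h5; exact hzb h5
  rcases h3 with h3 | h3
  · left
    intro y hy hy0
    have := card_ker h (S := S V (R i)) (f := α)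
      (fun y hy y' hy' => (hadd y (S_le hy) y' (S_le hy')).1)
      (fun a => by obtain ⟨y, hy, ha, -⟩ := hS a 0; exact ⟨y, hy, ha⟩) K inf_le_left h3 (r := 0) h2 hy hy0
    exact ((hKm y).1 this).2
  · right
    intro y hy hy0
    have := card_ker h (S := S V (R i)) (f := β)
      (fun y hy y' hy' => (hadd y (S_le hy) y' (S_le hy')).2)
      (fun a => by obtain ⟨y, hy, -, ha⟩ := hS 0 a; exact ⟨y, hy, ha⟩) K inf_le_left h3 (r := 0) h2 hy hy0
    exact ((hKm y).1 this).2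

/-- Step (4a). -/
theorem four_a {s : G} (hs : s ∈ M) (hsi : Mv s (R i) (R i)) (hsj : Mv s (R j) (R j))
    (hsw : ∀ y ∈ QQ (R i), (α (s * y * s⁻¹) = 0 ↔ β y = 0) ∧ (β (s * y * s⁻¹) = 0 ↔ α y = 0))
    {c : G} (hc : c ∈ D V (R j)) (hX : ∀ y ∈ S V (R i), c⁻¹ * y⁻¹ * c * y ∈ R i) : c = 1 := by
  have hS : ∀ a b, ∃ y ∈ S V (R i), α y = a ∧ β y = b := h.surS hadd hker hsur
  -- the group `X`
  have hmul : ∀ c c' : G, c ∈ D V (R j) → (∀ y ∈ S V (R i), c⁻¹ * y⁻¹ * c * y ∈ R i) →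
      c' ∈ D V (R j) → (∀ y ∈ S V (R i), c'⁻¹ * y⁻¹ * c' * y ∈ R i) →
      ∀ y ∈ S V (R i), (c * c')⁻¹ * y⁻¹ * (c * c') * y ∈ R i := by
    intro c c' hc hX hc' hX' y hy
    have h1 := hX y hy
    have h2 := hX' y hy
    have h3 := mem_centralizer_iff.1 (h.D_V j hc') _ (h.R_le i h1)
    have e : (c * c')⁻¹ * y⁻¹ * (c * c') * y = (c⁻¹ * y⁻¹ * c * y) * (c'⁻¹ * y⁻¹ * c' * y) := by
      calc (c * c')⁻¹ * y⁻¹ * (c * c') * y
          = c'⁻¹ * ((c⁻¹ * y⁻¹ * c * y) * (y⁻¹ * c' * y)) := by group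
        _ = c'⁻¹ * ((c⁻¹ * y⁻¹ * c * y) * c') * (c'⁻¹ * y⁻¹ * c' * y) := by group
        _ = c'⁻¹ * (c' * (c⁻¹ * y⁻¹ * c * y)) * (c'⁻¹ * y⁻¹ * c' * y) := by rw [h3]
        _ = _ := by group
    rw [e]
    exact mul_mem h1 h2
  -- one alternative for all elements of `X`
  have hall : (∀ c ∈ D V (R j), (∀ y ∈ S V (R i), c⁻¹ * y⁻¹ * c * y ∈ R i) →
      ∀ y ∈ S V (R i), α y = 0 → c * y = y * c) ∨
      (∀ c ∈ D V (R j), (∀ y ∈ S V (R i), c⁻¹ * y⁻¹ * c * y ∈ R i) →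
      ∀ y ∈ S V (R i), β y = 0 → c * y = y * c) := by
    by_contra hcon
    push Not at hcon
    obtain ⟨⟨c1, hc1, hX1, y1, hy1, ha1, hn1⟩, ⟨c2, hc2, hX2, y2, hy2, hb2, hn2⟩⟩ := hcon
    have k1 := (h.four_a1 hij hadd hker hsur hmov hc1 hX1).resolve_left fun hh => hn1 (hh y1 hy1 ha1)
    have k2 := (h.four_a1 hij hadd hker hsur hmov hc2 hX2).resolve_right fun hh => hn2 (hh y2 hy2 hb2)
    rcases h.four_a1 hij hadd hker hsur hmov (mul_mem hc1 hc2) (hmul c1 c2 hc1 hX1 hc2 hX2) with k3 | k3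
    · apply hn1
      have e1 := k3 y1 hy1 ha1
      have e2 := k2 y1 hy1 ha1
      have : c1 * y1 * c2 = y1 * c1 * c2 := by
        calc c1 * y1 * c2 = c1 * (y1 * c2) := by group
          _ = c1 * (c2 * y1) := by rw [e2]
          _ = c1 * c2 * y1 := by group
          _ = y1 * (c1 * c2) := e1
          _ = _ := by group
      exact mul_right_cancel this
    · apply hn2
      have e1 := k3 y2 hy2 hb2
      have e2 := k1 y2 hy2 hb2
      have : c1 * (c2 * y2) = c1 * (y2 * c2) := by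
        calc c1 * (c2 * y2) = c1 * c2 * y2 := by group
          _ = y2 * (c1 * c2) := e1
          _ = (y2 * c1) * c2 := by group
          _ = (c1 * y2) * c2 := by rw [e2]
          _ = _ := by group
      exact mul_left_cancel this
  -- conjugation by `s`
  have hsV := h.M_V s hs
  have hsS : Mv s (S V (R i)) (S V (R i)) := Mv.S hsV hsi
  have hsD : Mv s (D V (R j)) (D V (R j)) := Mv.D hsV hsj
  have hcs : s⁻¹ * c * s ∈ D V (R j) := by
    have := (hsD.inv c).1 hc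
    rwa [inv_inv] at this
  have hys : ∀ y ∈ S V (R i), s⁻¹ * y * s ∈ S V (R i) := by
    intro y hy
    have := (hsS.inv y).1 hy
    rwa [inv_inv] at this
  have hXs : ∀ y ∈ S V (R i), (s⁻¹ * c * s)⁻¹ * y⁻¹ * (s⁻¹ * c * s) * y ∈ R i := by
    intro y hy
    have h1 := hX _ ((hsS y).1 hy)
    have h2 := (hsi.inv _).1 h1
    have e : s⁻¹ * (c⁻¹ * (s * y * s⁻¹)⁻¹ * c * (s * y * s⁻¹)) * s⁻¹⁻¹ =
      (s⁻¹ * c * s)⁻¹ * y⁻¹ * (s⁻¹ * c * s) * y := by group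
    rwa [e] at h2
  have back : ∀ y, (s⁻¹ * c * s) * (s⁻¹ * y * s) = (s⁻¹ * y * s) * (s⁻¹ * c * s) → c * y = y * c := by
    intro y hy
    calc c * y = s * ((s⁻¹ * c * s) * (s⁻¹ * y * s)) * s⁻¹ := by group
      _ = s * ((s⁻¹ * y * s) * (s⁻¹ * c * s)) * s⁻¹ := by rw [hy]
      _ = y * c := by group
  have hboth : (∀ y ∈ S V (R i), α y = 0 → c * y = y * c) ∧
      (∀ y ∈ S V (R i), β y = 0 → c * y = y * c) := by
    rcases hall with hall | hall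
    · refine ⟨hall c hc hX, fun y hy hb => back y (hall _ hcs hXs _ (hys y hy) ?_)⟩
      have h1 := (hsw _ (S_le (hys y hy))).2
      have e : s * (s⁻¹ * y * s) * s⁻¹ = y := by group
      rw [e] at h1
      exact h1.1 hb
    · refine ⟨fun y hy ha => back y (hall _ hcs hXs _ (hys y hy) ?_), hall c hc hX⟩
      have h1 := (hsw _ (S_le (hys y hy))).1
      have e : s * (s⁻¹ * y * s) * s⁻¹ = y := by group
      rw [e] at h1
      exact h1.1 ha
  obtain ⟨y, hy, ha, hb⟩ := hS 1 1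
  obtain ⟨z, hz, hza, hzb⟩ := hS 0 1
  have hzy : β (z⁻¹ * y) = 0 := by
    have h1 := (hadd z (S_le hz) _ (mul_mem (inv_mem (S_le hz)) (S_le hy))).2
    have e : z * (z⁻¹ * y) = y := by group
    rw [e, hb, hzb] at h1
    exact left_eq_add.1 h1
  have c1 := hboth.1 z hz hza
  have c2 := hboth.2 _ (mul_mem (inv_mem hz) hy) hzy
  refine h.eq_one_of_comm hij hadd hker hsur hmov hc (S_le hy) (by rw [ha]; exact one_ne_zero)
    (by rw [hb]; exact one_ne_zero) ?_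
  calc c * y = (c * z) * (z⁻¹ * y) := by group
    _ = z * (c * (z⁻¹ * y)) := by rw [c1]; group
    _ = z * ((z⁻¹ * y) * c) := by rw [c2]
    _ = y * c := by group

end four

/-- Step (4a), final form. -/
theorem step_a {i j : I} (hij : op i j) {c : G} (hc : c ∈ D V (R j))
    (hX : ∀ y ∈ S V (R i), c⁻¹ * y⁻¹ * c * y ∈ R i) : c = 1 := by
  obtain ⟨α, β, hadd, hker, hsur, hmov, s, hs, hsi, hsj, hsw⟩ := h.half i j hij
  exact h.four_a hij hadd hker hsur hmov hs hsi hsj hsw hc hX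

/-- Step (4b). -/
theorem D_Q {i j : I} (hij : op i j) {d : G} (hd : d ∈ D V (R j)) (hdi : d ∈ QQ (R i)) : d = 1 := by
  refine h.step_a hij hd fun y hy => ?_
  have h1 := inv_mem (h.SQ i hy hdi)
  have e : (y⁻¹ * d⁻¹ * y * d)⁻¹ = d⁻¹ * y⁻¹ * d * y := by group
  rwa [e] at h1

/-- Step (4c). -/
theorem D_c {i j : I} (hij : op i j) {d : G} (hd : d ∈ D V (R j)) {n : G} (hn : n ∈ S V (R i))
    (hnV : n ∈ centralizer (V : Set G)) : d * n = n * d := by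
  have h1 : d * n * d⁻¹ * n⁻¹ ∈ D V (R j) := by
    have : d * n * d⁻¹ * n⁻¹ = d * (n * d⁻¹ * n⁻¹) := by group
    rw [this]
    exact mul_mem hd (D_nor (h.cV_nor j hnV) (inv_mem hd))
  have h2 : d * n * d⁻¹ * n⁻¹ ∈ QQ (R i) :=
    mul_mem (S_le (S_nor (h.cV_nor i (h.D_V j hd)) hn)) (inv_mem (S_le hn))
  have h3 := h.D_Q hij h1 h2
  calc d * n = (d * n * d⁻¹ * n⁻¹) * (n * d) := by group
    _ = n * d := by rw [h3, one_mul]

/-- Step (4d). -/
theorem D_sq (j : I) {d : G} (hd : d ∈ D V (R j)) : d * d = 1 := by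
  obtain ⟨i, hji, -⟩ := h.conn j j
  have hij := h.symm _ _ hji
  obtain ⟨α, β, hadd, hker, hsur, hmov, s, hs, hsi, hsj, hsw⟩ := h.half i j hij
  obtain ⟨t, ht0, ht1⟩ := h.three
  have hS : ∀ a b, ∃ y ∈ S V (R i), α y = a ∧ β y = b := h.surS hadd hker hsur
  have hdV := h.D_V j hd
  have hdN := h.cV_nor i hdV
  have hinv : ∀ y ∈ QQ (R i), (α y ≠ 0 → α y⁻¹ ≠ 0) ∧ (β y ≠ 0 → β y⁻¹ ≠ 0) := by
    intro y hy
    have h1 := hadd y hy y⁻¹ (inv_mem hy)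
    have h0 := (hker 1 (one_mem _)).1 (one_mem _)
    rw [mul_inv_cancel, h0.1, h0.2] at h1
    exact ⟨fun ha hb => ha (by rw [hb, add_zero] at h1; exact h1.1.symm),
      fun ha hb => ha (by rw [hb, add_zero] at h1; exact h1.2.symm)⟩
  -- elements with `α y, β y ≠ 0`
  have step1 : ∀ y ∈ S V (R i), α y ≠ 0 → β y ≠ 0 → (d * d)⁻¹ * y⁻¹ * (d * d) * y ∈ R i := by
    intro y hy ha hb
    have hyQ := S_le hy
    obtain ⟨k, hjk, hm⟩ := hmov y⁻¹ (inv_mem hyQ) ((hinv y hyQ).1 ha) ((hinv y hyQ).2 hb)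
    have hu : y⁻¹ * d * y ∈ D V (R k) := by
      have := (Mv.D (h.Q_V i (inv_mem hyQ)) hm d).1 hd
      rwa [inv_inv] at this
    have hcom := h.D_comm hjk hd hu
    have hcS : d⁻¹ * (y⁻¹ * d * y) ∈ S V (R i) := by
      have e : d⁻¹ * (y⁻¹ * d * y) = (d⁻¹ * y⁻¹ * d⁻¹⁻¹) * y := by group
      rw [e]
      exact mul_mem (S_nor (inv_mem hdN) (inv_mem hy)) hy
    have h1 := h.S_sq i hcS
    have e : (d * d)⁻¹ * y⁻¹ * (d * d) * y = d⁻¹ * (y⁻¹ * d * y) * (d⁻¹ * (y⁻¹ * d * y)) := by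
      have hcom' : d⁻¹ * (y⁻¹ * d * y) = (y⁻¹ * d * y) * d⁻¹ := by
        rw [inv_mul_eq_iff_eq_mul, ← mul_assoc, hcom, mul_inv_cancel_right]
      calc (d * d)⁻¹ * y⁻¹ * (d * d) * y = d⁻¹ * (d⁻¹ * (y⁻¹ * d * y)) * (y⁻¹ * d * y) := by group
        _ = d⁻¹ * ((y⁻¹ * d * y) * d⁻¹) * (y⁻¹ * d * y) := by rw [hcom']
        _ = _ := by group
    rw [e]
    exact h1
  have step0 : ∀ y ∈ S V (R i), y ∈ centralizer (V : Set G) →
      (d * d)⁻¹ * y⁻¹ * (d * d) * y ∈ R i := by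
    intro y hy hyV
    have h1 := h.D_c hij (mul_mem hd hd) hy hyV
    have e : (d * d)⁻¹ * y⁻¹ * (d * d) * y = (d * d)⁻¹ * y⁻¹ * ((d * d) * y) := by group
    rw [e, h1]
    have e2 : (d * d)⁻¹ * y⁻¹ * (y * (d * d)) = 1 := by group
    rw [e2]
    exact one_mem _
  have stepm : ∀ y ∈ S V (R i), ∀ z ∈ S V (R i), (d * d)⁻¹ * y⁻¹ * (d * d) * y ∈ R i →
      (d * d)⁻¹ * z⁻¹ * (d * d) * z ∈ R i →
      (d * d)⁻¹ * (y * z)⁻¹ * (d * d) * (y * z) ∈ R i := by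
    intro y hy z hz h1 h2
    have h3 := h.RQ i _ h1 z (S_le hz)
    have e : (d * d)⁻¹ * (y * z)⁻¹ * (d * d) * (y * z) =
        ((d * d)⁻¹ * z⁻¹ * (d * d) * z) * ((d * d)⁻¹ * y⁻¹ * (d * d) * y) := by
      calc (d * d)⁻¹ * (y * z)⁻¹ * (d * d) * (y * z)
          = ((d * d)⁻¹ * z⁻¹ * (d * d)) * (((d * d)⁻¹ * y⁻¹ * (d * d) * y) * z) := by group
        _ = ((d * d)⁻¹ * z⁻¹ * (d * d)) * (z * ((d * d)⁻¹ * y⁻¹ * (d * d) * y)) := by rw [h3]
        _ = _ := by group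
    rw [e]
    exact mul_mem h2 h1
  refine h.step_a hij (mul_mem hd hd) fun y hy => ?_
  by_cases ha : α y = 0
  · by_cases hb : β y = 0
    · exact step0 y hy ((hker y (S_le hy)).2 ⟨ha, hb⟩)
    · -- `y = z (z⁻¹ y)`, `α z = 1`, `β z = x ≠ 0, β y`
      obtain ⟨x, hx0, hx1⟩ : ∃ x : F, x ≠ 0 ∧ x ≠ β y := by
        by_cases h1 : β y = 1
        · exact ⟨t, ht0, by rw [h1]; exact ht1⟩
        · exact ⟨1, one_ne_zero, fun h2 => h1 h2.symm⟩
      obtain ⟨z, hz, hza, hzb⟩ := hS 1 x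
      have h1 := hadd z (S_le hz) _ (mul_mem (inv_mem (S_le hz)) (S_le hy))
      have e : z * (z⁻¹ * y) = y := by group
      rw [e, hza, hzb, ha] at h1
      have h2 := stepm z hz (z⁻¹ * y) (mul_mem (inv_mem hz) hy)
        (step1 z hz (by rw [hza]; exact one_ne_zero) (by rw [hzb]; exact hx0))
        (step1 _ (mul_mem (inv_mem hz) hy)
          (fun h3 => by rw [h3, add_zero] at h1; exact one_ne_zero h1.1.symm)
          (fun h3 => by rw [h3, add_zero] at h1; exact hx1 h1.2.symm))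
      rwa [e] at h2
  · by_cases hb : β y = 0
    · obtain ⟨x, hx0, hx1⟩ : ∃ x : F, x ≠ 0 ∧ x ≠ α y := by
        by_cases h1 : α y = 1
        · exact ⟨t, ht0, by rw [h1]; exact ht1⟩
        · exact ⟨1, one_ne_zero, fun h2 => h1 h2.symm⟩
      obtain ⟨z, hz, hza, hzb⟩ := hS x 1
      have h1 := hadd z (S_le hz) _ (mul_mem (inv_mem (S_le hz)) (S_le hy))
      have e : z * (z⁻¹ * y) = y := by group
      rw [e, hza, hzb, hb] at h1
      have h2 := stepm z hz (z⁻¹ * y) (mul_mem (inv_mem hz) hy)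
        (step1 z hz (by rw [hza]; exact hx0) (by rw [hzb]; exact one_ne_zero))
        (step1 _ (mul_mem (inv_mem hz) hy)
          (fun h3 => by rw [h3, add_zero] at h1; exact hx1 h1.1.symm)
          (fun h3 => by rw [h3, add_zero] at h1; exact one_ne_zero h1.2.symm))
      rwa [e] at h2
    · exact step1 y hy ha hb

/-! ### The structure `Beta.Pre` -/

/-- `Beta.Pre` for a family of pairwise opposite points, `D_k` given. -/
theorem pre_of {J : Type*} (ι : J → I) (hι : ∀ a b, a ≠ b → op (ι a) (ι b))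
    (hk : ∀ i j : J, i ≠ j → ∀ d ∈ QQ (R (ι j)) ⊓ centralizer (S V (R (ι j)) : Set G),
      ∀ y ∈ S V (R (ι i)), (y⁻¹ * d⁻¹ * y * d) * (y⁻¹ * d⁻¹ * y * d) = 1) :
    Beta.Pre V (fun a => R (ι a)) (fun a => QQ (R (ι a))) (fun a => S V (R (ι a))) where
  V_comm := h.comm
  V_sq := h.sq
  R_le a := h.R_le _
  R_Q a := h.R_Q _
  RQ a := h.RQ _
  ne a := h.ne _
  two a := Cfsg.Agent.ZN.isPGroup_o2 _
  Q_V a y hy := (h.Q_V _ hy).mem_nor
  nor a c hc y hy := Q_nor hc hy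
  max a N hN hle hn := Cfsg.Agent.ZN.le_o2 hle hN fun c hc => by
    refine Mv.mem_nor fun x => ⟨fun hx => hn c hc x hx, fun hx => ?_⟩
    have := hn c⁻¹ (inv_mem hc) _ hx
    have e : c⁻¹ * (c * x * c⁻¹) * c⁻¹⁻¹ = x := by group
    rwa [e] at this
  char2 a := h.char2 _
  EQs a := h.EQs _
  cenR a := h.cenR _
  cardE a := h.cardE _
  alt a b hab := h.alt _ _ (hι a b hab)
  S_cen a y hy := by
    rw [S, nc, centralizer_closure, mem_centralizer_iff]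
    rintro _ ⟨c, hc, e, he, rfl⟩
    exact hy c hc e he
  S_nor a c hc n hn := S_nor hc hn
  S_le a := S_le
  E_le a := E_le
  SQ a n hn y hy := h.SQ _ hn hy
  S_sq a n hn := h.S_sq _ hn
  cover a y hy := h.cover _ hy
  D_V a y hy := h.D_V _ hy
  D_comm a b hab x hx y hy := h.D_comm (hι a b hab) hx hy
  D_Q a b hab d hd hdi := h.D_Q (hι a b hab) hd hdi
  D_c a b hab d hd n hn hnV := h.D_c (hι a b hab) hd hn hnV
  D_sq a d hd := h.D_sq _ hd
  D_k := hk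

/-- `Beta.Pre` for one point. -/
theorem pre1 (i : I) : Beta.Pre V (fun _ : Unit => R i) (fun _ => QQ (R i)) (fun _ => S V (R i)) :=
  h.pre_of (fun _ : Unit => i) (fun a b hab => absurd rfl hab) (fun a b hab => absurd rfl hab)

/-- `D_k` (helper410's form of (6)). -/
theorem D_k {i j : I} (hij : op i j) {d : G} (hd : d ∈ D V (R j)) {y : G} (hy : y ∈ S V (R i)) :
    (y⁻¹ * d⁻¹ * y * d) * (y⁻¹ * d⁻¹ * y * d) = 1 := by
  have hdV := h.D_V j hd
  have hdN := h.cV_nor i hdV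
  set k := y⁻¹ * d⁻¹ * y * d with hk
  have hks : k ∈ S V (R i) := by
    have e : k = y⁻¹ * (d⁻¹ * y * d⁻¹⁻¹) := by rw [hk]; group
    rw [e]
    exact mul_mem (inv_mem hy) (S_nor (inv_mem hdN) hy)
  -- `k` commutes with `S ∩ C(V)`
  have hkc : ∀ c ∈ S V (R i), c ∈ centralizer (V : Set G) → k * c = c * k := by
    intro c hc hcV
    have h1 : y⁻¹ * c⁻¹ * y * c ∈ R i := h.SQ i hy (S_le hc)
    have h2 := mem_centralizer_iff.1 hdV _ (h.R_le i h1)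
    have h3 := h.D_c hij hd hc hcV
    have h4 := h.RQ i _ h1 _ (S_le hks)
    have h5 : y⁻¹ * c⁻¹ * y * c = (y * k)⁻¹ * c⁻¹ * (y * k) * c := by
      have e1 : y⁻¹ * c⁻¹ * y * c = d⁻¹ * (y⁻¹ * c⁻¹ * y * c) * d := by
        rw [mul_assoc d⁻¹, h2]; group
      have e2 : d⁻¹ * c * d = c := by
        rw [mul_assoc, ← h3]; group
      have e3 : y * k = d⁻¹ * y * d := by rw [hk]; group
      have e4 : d⁻¹ * (y⁻¹ * c⁻¹ * y * c) * d =
          (d⁻¹ * y * d)⁻¹ * (d⁻¹ * c * d)⁻¹ * (d⁻¹ * y * d) * (d⁻¹ * c * d) := by group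
      rw [e1, e4, e2, e3]
    have h6 : (y * k)⁻¹ * c⁻¹ * (y * k) * c =
        (y⁻¹ * c⁻¹ * y * c) * (k⁻¹ * c⁻¹ * k * c) := by
      calc (y * k)⁻¹ * c⁻¹ * (y * k) * c
          = k⁻¹ * ((y⁻¹ * c⁻¹ * y * c) * (c⁻¹ * k * c)) := by group
        _ = k⁻¹ * ((y⁻¹ * c⁻¹ * y * c) * k * (k⁻¹ * c⁻¹ * k * c)) := by group
        _ = k⁻¹ * (k * (y⁻¹ * c⁻¹ * y * c) * (k⁻¹ * c⁻¹ * k * c)) := by rw [h4]
        _ = _ := by group
    rw [h6] at h5
    have h7 : k⁻¹ * c⁻¹ * k * c = 1 := by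
      have := h5.symm
      rwa [mul_eq_left] at this
    have h8 : k * c = c * k * (k⁻¹ * c⁻¹ * k * c) := by group
    rw [h8, h7, mul_one]
  obtain ⟨e, he, hec⟩ := (h.pre1 i).F_le (i := ()) hks hkc
  have heS : e ∈ S V (R i) := E_le he
  have heD : e⁻¹ * k ∈ D V (R i) := ⟨S_le (mul_mem (inv_mem heS) hks), hec⟩
  have h1 := h.D_sq i heD
  have h2 := mem_centralizer_iff.1 hec e heS
  calc k * k = e * ((e⁻¹ * k) * e) * (e⁻¹ * k) := by group
    _ = e * (e * (e⁻¹ * k)) * (e⁻¹ * k) := by rw [← h2]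
    _ = (e * e) * ((e⁻¹ * k) * (e⁻¹ * k)) := by group
    _ = 1 := by rw [h1, h.sq e he.1, one_mul]

/-- `Beta.Pre` for a family of pairwise opposite points. -/
theorem pre {J : Type*} (ι : J → I) (hι : ∀ a b, a ≠ b → op (ι a) (ι b)) :
    Beta.Pre V (fun a => R (ι a)) (fun a => QQ (R (ι a))) (fun a => S V (R (ι a))) :=
  h.pre_of ι hι fun a b hab _ hd _ hy => h.D_k (hι a b hab) hd hy

/-- **THEOREM BETA for type (γ)**: `Q = O₂(N_G(R))` is semi-extraspecial with centre `R`. -/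
theorem result (i : I) : QQ (R i) = S V (R i) ∧
    QQ (R i) ⊓ centralizer (QQ (R i) : Set G) = R i ∧
    (∀ x ∈ QQ (R i), ∀ y ∈ QQ (R i), x⁻¹ * y⁻¹ * x * y ∈ R i) ∧ (∀ x ∈ QQ (R i), x * x ∈ R i) ∧
    (∀ y ∈ QQ (R i), y ∉ R i → ∀ r ∈ R i, ∃ n ∈ QQ (R i), n⁻¹ * y⁻¹ * n * y = r) := by
  obtain ⟨j, hij, -⟩ := h.conn i i
  have hji := h.symm _ _ hij
  have hp := h.pre (J := Bool) (fun b => if b then i else j) (by
    intro a b hab
    cases a <;> cases b <;> simp_all)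
  exact hp.result (fun b => ⟨!b, by cases b <;> simp⟩) true

/-- `D = R` -/
theorem D_eq (i : I) : D V (R i) = R i := by
  obtain ⟨h1, h2, -⟩ := h.result i
  have e : D V (R i) = QQ (R i) ⊓ centralizer (S V (R i) : Set G) := rfl
  rw [e, ← h1, h2]

end Bp

end Cfsg.Agent.Omega.NO1.BetaPlus

end

end

-- merged: Cfsg.Agent.Mrg.Omega.NO1.Tens.Group
section

section


/-!
# Type (γ) of the leaf N1: from `PlusQ F N V` to the matrices (helper914)

`D.v X ∈ V` has matrix `X`; `D.act g X = e (g v(X) g⁻¹)` for `g ∈ N`; `D.R0`, `D.R3` : the points `F E₁₁`, `F E₂₂`;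
`D.conj m` : the coordinates conjugated by `m ∈ N`.
-/

set_option autoImplicit false
set_option linter.unusedSectionVars false

namespace Cfsg.Agent.Omega.NO1.PlusQ

open Subgroup Cfsg Matrix
open Cfsg.Agent.Omega.NO1.Tens
open Cfsg.Agent.Omega.NO1.BetaPlus (Mv QQ)

universe u

variable {G : Type u} [Group G] {F : Type} [Field F] {N V : Subgroup G}

variable (D : PlusQ F N V)

theorem e_one : D.e 1 = 0 := by
  have := D.mul 1 (one_mem _) 1 (one_mem _)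
  rw [one_mul] at this
  exact left_eq_add.1 this

theorem e_inj {x y : G} (hx : x ∈ V) (hy : y ∈ V) (h : D.e x = D.e y) : x = y := by
  have h1 := D.mul (x * y⁻¹) (mul_mem hx (inv_mem hy)) y hy
  rw [inv_mul_cancel_right, h] at h1
  have h2 := D.ker _ (mul_mem hx (inv_mem hy)) (right_eq_add.1 h1)
  exact mul_inv_eq_one.1 h2

theorem e_inv {x : G} (hx : x ∈ V) : D.e x⁻¹ = - D.e x := by
  have h1 := D.mul x hx x⁻¹ (inv_mem hx)
  rw [mul_inv_cancel, D.e_one] at h1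
  exact (neg_eq_of_add_eq_zero_right h1.symm).symm

/-- the element of `V` with matrix `X` -/
noncomputable def v (X : M2 F) : G := (D.surj X).choose

theorem v_mem (X : M2 F) : D.v X ∈ V := (D.surj X).choose_spec.1

@[simp] theorem e_v (X : M2 F) : D.e (D.v X) = X := (D.surj X).choose_spec.2

theorem v_e {w : G} (hw : w ∈ V) : D.v (D.e w) = w := D.e_inj (D.v_mem _) hw (D.e_v _)

theorem v_add (X Y : M2 F) : D.v (X + Y) = D.v X * D.v Y :=
  D.e_inj (D.v_mem _) (mul_mem (D.v_mem _) (D.v_mem _)) (by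
    rw [D.mul _ (D.v_mem _) _ (D.v_mem _), D.e_v, D.e_v, D.e_v])

theorem v_zero : D.v 0 = 1 := D.e_inj (D.v_mem _) (one_mem _) (by rw [D.e_v, D.e_one])

theorem v_inj {X Y : M2 F} (h : D.v X = D.v Y) : X = Y := by
  rw [← D.e_v X, h, D.e_v]

/-- the action of `g ∈ N` on the matrices -/
noncomputable def act (g : G) (X : M2 F) : M2 F := D.e (g * D.v X * g⁻¹)

variable {D}

section act

variable (hN : ∀ m ∈ N, Mv m V V)
include hN

theorem v_act {g : G} (hg : g ∈ N) (X : M2 F) : D.v (D.act g X) = g * D.v X * g⁻¹ :=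
  D.v_e ((hN g hg _).1 (D.v_mem X))

theorem act_e {g : G} (hg : g ∈ N) {w : G} (hw : w ∈ V) : D.act g (D.e w) = D.e (g * w * g⁻¹) := by
  have _ := hN g hg
  rw [act, D.v_e hw]

theorem act_mul {g h : G} (hg : g ∈ N) (hh : h ∈ N) (X : M2 F) :
    D.act (g * h) X = D.act g (D.act h X) := by
  have _ := hg
  have e : g * h * D.v X * (g * h)⁻¹ = g * (h * D.v X * h⁻¹) * g⁻¹ := by group
  rw [act, act, v_act hN hh, e]

theorem act_inv_act {g : G} (hg : g ∈ N) (X : M2 F) : D.act g⁻¹ (D.act g X) = X := by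
  rw [← act_mul hN (inv_mem hg) hg, inv_mul_cancel, act]
  have e : 1 * D.v X * (1 : G)⁻¹ = D.v X := by group
  rw [e, D.e_v]

theorem act_act_inv {g : G} (hg : g ∈ N) (X : M2 F) : D.act g (D.act g⁻¹ X) = X := by
  have := act_inv_act hN (inv_mem hg) (D := D) X
  rwa [inv_inv] at this

theorem act_add {g : G} (hg : g ∈ N) (X Y : M2 F) : D.act g (X + Y) = D.act g X + D.act g Y := by
  have e : g * (D.v X * D.v Y) * g⁻¹ = (g * D.v X * g⁻¹) * (g * D.v Y * g⁻¹) := by group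
  rw [act, D.v_add, e, D.mul _ ((hN g hg _).1 (D.v_mem X)) _ ((hN g hg _).1 (D.v_mem Y))]
  rfl

theorem act_pow {g : G} (hg : g ∈ N) (n : ℕ) (X : M2 F) : (D.act g)^[n] X = D.act (g ^ n) X := by
  induction n generalizing X with
  | zero =>
    rw [Function.iterate_zero, id, pow_zero, act]
    have e : 1 * D.v X * (1 : G)⁻¹ = D.v X := by group
    rw [e, D.e_v]
  | succ n ih => rw [Function.iterate_succ_apply, ih, pow_succ, act_mul hN (pow_mem hg n) hg]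

theorem lift_act (A B : SL F) : ∃ h ∈ N, ∀ X, D.act h X = Tens.act A B X := by
  have _ := hN
  obtain ⟨h, hh, h1⟩ := D.lift A B
  exact ⟨h, hh, fun X => by rw [act, h1 _ (D.v_mem X), D.e_v]; rfl⟩

theorem nm {g : G} (hg : g ∈ N) : Nm (D.act g) (D.act g⁻¹) := by
  have key : ∀ g ∈ N, ∀ A B : SL F, ∃ A' B' : SL F, ∀ X,
      D.act g (Tens.act A B X) = Tens.act A' B' (D.act g X) := by
    intro g hg A B
    obtain ⟨h, hh, h1⟩ := lift_act hN (D := D) A B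
    obtain ⟨A', B', h2⟩ := D.norm g hg h hh A B (fun v hv => by
      have := h1 (D.e v)
      rw [act_e hN hh hv] at this
      exact this)
    refine ⟨A', B', fun X => ?_⟩
    have h3 := h2 _ (D.v_mem (D.act g X))
    rw [D.e_v] at h3
    rw [← h1, ← act_mul hN hg hh]
    have h4 : D.act (g * h) X = D.act (g * h * g⁻¹) (D.act g X) := by
      rw [← act_mul hN (mul_mem (mul_mem hg hh) (inv_mem hg)) hg]
      congr 1; group
    rw [h4]
    exact h3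
  exact ⟨act_add hN hg, act_inv_act hN hg, act_act_inv hN hg, key g hg, key g⁻¹ (inv_mem hg)⟩

theorem act_one_iff {g : G} (hg : g ∈ N) : (∀ X, D.act g X = X) ↔ g ∈ centralizer (V : Set G) := by
  rw [mem_centralizer_iff]
  constructor
  · intro h w hw
    have h1 := h (D.e w)
    rw [act_e hN hg hw] at h1
    have h2 := D.e_inj ((hN g hg _).1 hw) hw h1
    calc w * g = (g * w * g⁻¹) * g := by rw [h2]
      _ = g * w := by group
  · intro h X
    have h1 := h (D.v X) (D.v_mem X)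
    rw [act, ← h1, mul_inv_cancel_right, D.e_v]

end act

/-! ### The two base points -/

variable (D)

/-- the point `0 = F E₁₁` -/
def R0 : Subgroup G where
  carrier := {w | w ∈ V ∧ ∃ c, D.e w = e0 c}
  one_mem' := ⟨one_mem _, 0, by rw [D.e_one, e0_zero]⟩
  mul_mem' := by
    rintro x y ⟨hx, c, hc⟩ ⟨hy, d, hd⟩
    exact ⟨mul_mem hx hy, c + d, by rw [D.mul x hx y hy, hc, hd, e0_add]⟩
  inv_mem' := by
    rintro x ⟨hx, c, hc⟩
    refine ⟨inv_mem hx, -c, ?_⟩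
    rw [D.e_inv hx, hc]
    apply ext2 <;> simp [e0]

/-- the point `∞ = F E₂₂` -/
def R3 : Subgroup G where
  carrier := {w | w ∈ V ∧ ∃ c, D.e w = e3 c}
  one_mem' := ⟨one_mem _, 0, by rw [D.e_one, e3_zero]⟩
  mul_mem' := by
    rintro x y ⟨hx, c, hc⟩ ⟨hy, d, hd⟩
    exact ⟨mul_mem hx hy, c + d, by rw [D.mul x hx y hy, hc, hd, e3_add]⟩
  inv_mem' := by
    rintro x ⟨hx, c, hc⟩
    refine ⟨inv_mem hx, -c, ?_⟩
    rw [D.e_inv hx, hc]
    apply ext2 <;> simp [e3]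

variable {D}

theorem mem_R0 {w : G} : w ∈ D.R0 ↔ w ∈ V ∧ ∃ c, D.e w = e0 c := Iff.rfl

theorem mem_R3 {w : G} : w ∈ D.R3 ↔ w ∈ V ∧ ∃ c, D.e w = e3 c := Iff.rfl

theorem v_e0 (c : F) : D.v (e0 c) ∈ D.R0 := ⟨D.v_mem _, c, D.e_v _⟩

theorem v_e3 (c : F) : D.v (e3 c) ∈ D.R3 := ⟨D.v_mem _, c, D.e_v _⟩

theorem R0_le : D.R0 ≤ V := fun _ hw => hw.1

theorem R3_le : D.R3 ≤ V := fun _ hw => hw.1

theorem card_R0 : Nat.card D.R0 = Nat.card F := by
  refine Nat.card_congr (Equiv.ofBijective (fun w : D.R0 => D.e w 0 0) ⟨?_, ?_⟩)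
  · rintro ⟨x, hx, c, hc⟩ ⟨y, hy, d, hd⟩ hxy
    apply Subtype.ext
    refine D.e_inj hx hy ?_
    have h1 : D.e x 0 0 = D.e y 0 0 := hxy
    rw [hc, hd] at h1 ⊢
    simp [e0] at h1
    rw [h1]
  · intro c
    exact ⟨⟨D.v (e0 c), v_e0 c⟩, by simp [e0]⟩

theorem _root_.Cfsg.Agent.Omega.NO1.BetaPlus.Mv.of_le [Finite G] {g : G} {A B : Subgroup G}
    (h : ∀ a ∈ A, g * a * g⁻¹ ∈ B) (hc : Nat.card B ≤ Nat.card A) : Mv g A B := by
  have h1 : A.map (MulAut.conj g).toMonoidHom ≤ B := by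
    rintro _ ⟨a, ha, rfl⟩
    exact h a ha
  have h2 : Nat.card (A.map (MulAut.conj g).toMonoidHom) = Nat.card A :=
    Nat.card_congr (A.equivMapOfInjective _ (MulAut.conj g).injective).toEquiv.symm
  have h3 : A.map (MulAut.conj g).toMonoidHom = B := eq_of_le_of_card_ge h1 (by rw [h2]; exact hc)
  intro x
  refine ⟨fun hx => h x hx, fun hx => ?_⟩
  rw [← h3] at hx
  obtain ⟨a, ha, hax⟩ := hx
  have : g * a * g⁻¹ = g * x * g⁻¹ := hax
  have h4 : a = x := by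
    have := mul_right_cancel this
    exact mul_left_cancel this
  rwa [← h4]

section

variable [Finite G] (hN : ∀ m ∈ N, Mv m V V)
include hN

/-- `g` normalises `R0` iff it fixes the point `0` -/
theorem fix_iff {g : G} (hg : g ∈ N) : Mv g D.R0 D.R0 ↔ ∀ x, ∃ y, D.act g (e0 x) = e0 y := by
  constructor
  · intro h x
    obtain ⟨-, y, hy⟩ := (h _).1 (v_e0 x)
    exact ⟨y, hy⟩
  · intro h
    refine Mv.of_le ?_ le_rfl
    rintro w ⟨hw, c, hc⟩
    refine ⟨(hN g hg w).1 hw, ?_⟩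
    obtain ⟨y, hy⟩ := h c
    exact ⟨y, by rw [← hy, ← hc, act_e hN hg hw]⟩

end

/-- The coordinates conjugated by `m ∈ N`. -/
noncomputable def conj (D : PlusQ F N V) (hN : ∀ m ∈ N, Mv m V V) (m : G) (hm : m ∈ N) : PlusQ F N V where
  e x := D.e (m⁻¹ * x * m)
  mul v hv w hw := by
    have h1 : m⁻¹ * v * m ∈ V := by
      have := ((hN m hm).inv v).1 hv; rwa [inv_inv] at this
    have h2 : m⁻¹ * w * m ∈ V := by
      have := ((hN m hm).inv w).1 hw; rwa [inv_inv] at this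
    rw [← D.mul _ h1 _ h2]
    congr 1; group
  surj X := ⟨m * D.v X * m⁻¹, (hN m hm _).1 (D.v_mem X), by
    have e : m⁻¹ * (m * D.v X * m⁻¹) * m = D.v X := by group
    rw [e, D.e_v]⟩
  ker v hv h := by
    have h1 : m⁻¹ * v * m ∈ V := by
      have := ((hN m hm).inv v).1 hv; rwa [inv_inv] at this
    have h2 := D.ker _ h1 h
    have e : v = m * (m⁻¹ * v * m) * m⁻¹ := by group
    rw [e, h2]; group
  lift A B := by
    obtain ⟨g, hg, h⟩ := D.lift A B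
    refine ⟨m * g * m⁻¹, mul_mem (mul_mem hm hg) (inv_mem hm), fun v hv => ?_⟩
    have h1 : m⁻¹ * v * m ∈ V := by
      have := ((hN m hm).inv v).1 hv; rwa [inv_inv] at this
    rw [← h _ h1]
    congr 1; group
  norm g hg h hh A B hAB := by
    have key : ∀ v ∈ V, D.e ((m⁻¹ * h * m) * v * (m⁻¹ * h * m)⁻¹) = A.1 * D.e v * B.1.transpose := by
      intro v hv
      have h1 := hAB (m * v * m⁻¹) ((hN m hm _).1 hv)
      have e1 : m⁻¹ * (h * (m * v * m⁻¹) * h⁻¹) * m = (m⁻¹ * h * m) * v * (m⁻¹ * h * m)⁻¹ := by group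
      have e2 : m⁻¹ * (m * v * m⁻¹) * m = v := by group
      rw [e1, e2] at h1
      exact h1
    obtain ⟨A', B', h2⟩ := D.norm (m⁻¹ * g * m) (mul_mem (mul_mem (inv_mem hm) hg) hm) (m⁻¹ * h * m)
      (mul_mem (mul_mem (inv_mem hm) hh) hm) A B key
    refine ⟨A', B', fun v hv => ?_⟩
    have h1 : m⁻¹ * v * m ∈ V := by
      have := ((hN m hm).inv v).1 hv; rwa [inv_inv] at this
    rw [← h2 _ h1]
    congr 1; group
  swap := by
    obtain ⟨s, hs, h⟩ := D.swap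
    refine ⟨m * s * m⁻¹, mul_mem (mul_mem hm hs) (inv_mem hm), fun g hg A hA => ?_⟩
    have key : ∀ v ∈ V, D.e ((m⁻¹ * g * m) * v * (m⁻¹ * g * m)⁻¹) = A.1 * D.e v := by
      intro v hv
      have h1 := hA (m * v * m⁻¹) ((hN m hm _).1 hv)
      have e1 : m⁻¹ * (g * (m * v * m⁻¹) * g⁻¹) * m = (m⁻¹ * g * m) * v * (m⁻¹ * g * m)⁻¹ := by group
      have e2 : m⁻¹ * (m * v * m⁻¹) * m = v := by group
      rw [e1, e2] at h1
      exact h1
    obtain ⟨B, h2⟩ := h (m⁻¹ * g * m) (mul_mem (mul_mem (inv_mem hm) hg) hm) A key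
    refine ⟨B, fun v hv => ?_⟩
    have h1 : m⁻¹ * v * m ∈ V := by
      have := ((hN m hm).inv v).1 hv; rwa [inv_inv] at this
    rw [← h2 _ h1]
    congr 1; group

theorem conj_e (hN : ∀ m ∈ N, Mv m V V) {m : G} (hm : m ∈ N) (x : G) :
    (D.conj hN m hm).e x = D.e (m⁻¹ * x * m) := rfl

theorem conj_v (hN : ∀ m ∈ N, Mv m V V) {m : G} (hm : m ∈ N) (X : M2 F) :
    (D.conj hN m hm).v X = m * D.v X * m⁻¹ := by
  refine (D.conj hN m hm).e_inj (v_mem _ _) ((hN m hm _).1 (D.v_mem X)) ?_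
  rw [e_v, conj_e]
  have e : m⁻¹ * (m * D.v X * m⁻¹) * m = D.v X := by group
  rw [e, D.e_v]

theorem conj_R0 (hN : ∀ m ∈ N, Mv m V V) {m : G} (hm : m ∈ N) : Mv m D.R0 (D.conj hN m hm).R0 := by
  intro x
  rw [mem_R0, mem_R0, conj_e]
  have e : m⁻¹ * (m * x * m⁻¹) * m = x := by group
  rw [e, hN m hm x]

theorem conj_R3 (hN : ∀ m ∈ N, Mv m V V) {m : G} (hm : m ∈ N) : Mv m D.R3 (D.conj hN m hm).R3 := by
  intro x
  rw [mem_R3, mem_R3, conj_e]
  have e : m⁻¹ * (m * x * m⁻¹) * m = x := by group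
  rw [e, hN m hm x]

end Cfsg.Agent.Omega.NO1.PlusQ

end

section


/-!
# Type (γ) of the leaf N1: the action of `Q = O₂(N_G(R))` on `V` (helper914)

`Cx D` : `V ≰ Q`, `C_G(Q) ≤ Q ≤ N`, `Q = QQ D.R0`.
* `Cx.U` : every `y ∈ Q` acts as `act (up a) (up b)`; `Cx.U_surj` : all pairs occur;
* `Cx.mem_E` : `V ∩ Q = {v | (e v) 1 1 = 0}`.
-/

set_option autoImplicit false
set_option linter.unusedSectionVars false

namespace Cfsg.Agent.Omega.NO1.PlusQ

open Subgroup Cfsg Matrix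
open Cfsg.Agent.Omega.NO1.Tens
open Cfsg.Agent.Omega.NO1.BetaPlus (Mv QQ)
open Cfsg.Agent.ZN (o2)

universe u

variable {G : Type u} [Group G] {F : Type} [Field F] {N V : Subgroup G}

theorem comm (D : PlusQ F N V) {a b : G} (ha : a ∈ V) (hb : b ∈ V) : a * b = b * a :=
  D.e_inj (mul_mem ha hb) (mul_mem hb ha) (by rw [D.mul a ha b hb, D.mul b hb a ha, add_comm])

variable [CharP F 2]

theorem sq (D : PlusQ F N V) {a : G} (ha : a ∈ V) : a * a = 1 :=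
  D.ker _ (mul_mem ha ha) (by rw [D.mul a ha a ha]; ext i j; exact CharTwo.add_self_eq_zero _)

theorem T2_act_comp {γ : M2 F → M2 F} (h : T2 γ) (A B : SL F) : T2 (fun X => Tens.act A B (γ X)) := by
  constructor
  · intro C
    obtain ⟨C', hC⟩ := h.1 C
    refine ⟨B * C' * B⁻¹, fun X => ?_⟩
    show Tens.act A B (γ (Tens.act C 1 X)) = _
    rw [hC, act_act, act_act]; congr 1 <;> group
  · intro C
    obtain ⟨C', hC⟩ := h.2 C
    refine ⟨A * C' * A⁻¹, fun X => ?_⟩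
    show Tens.act A B (γ (Tens.act 1 C X)) = _
    rw [hC, act_act, act_act]; congr 1 <;> group

section

variable {D : PlusQ F N V} (hN : ∀ m ∈ N, Mv m V V) {t : F} (ht0 : t ≠ 0) (ht1 : t ≠ 1)
include hN ht0 ht1

theorem exists_T2 : ∃ s ∈ N, T2 (D.act s) := by
  obtain ⟨s, hs, h⟩ := D.swap
  refine ⟨s, hs, ?_⟩
  have hm := nm (D := D) hN hs
  have half : ∀ A : SL F, ∃ B : SL F, ∀ X, D.act s (Tens.act A 1 X) = Tens.act 1 B (D.act s X) := by
    intro A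
    obtain ⟨g, hg, hgA⟩ := lift_act (D := D) hN A 1
    obtain ⟨B, hB⟩ := h g hg A (fun v hv => by
      have h1 := hgA (D.e v)
      rw [act_e hN hg hv] at h1
      rw [h1]; simp [Tens.act])
    refine ⟨B, fun X => ?_⟩
    have h1 := hB _ (D.v_mem (D.act s X))
    rw [D.e_v] at h1
    rw [← hgA, ← act_mul hN hs hg]
    have h2 : D.act (s * g) X = D.act (s * g * s⁻¹) (D.act s X) := by
      rw [← act_mul hN (mul_mem (mul_mem hs hg) (inv_mem hs)) hs]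
      congr 1; group
    rw [h2]
    show D.e _ = _
    rw [h1]; simp [Tens.act]
  rcases hm.dich ht0 ht1 with hT | hT
  · exfalso
    obtain ⟨A', hA'⟩ := hT.1 (up 1)
    obtain ⟨B', hB'⟩ := half (up 1)
    have h3 : ∀ X, Tens.act A' 1 X = Tens.act 1 B' X := fun X => by
      have := hA' (D.act s⁻¹ X)
      rw [hB', hm.right] at this
      exact this.symm
    have h4 := (act_unique h3).1
    refine up_one_ne (F := F) (act_eq_one (A := up 1) (B := 1) fun X => hm.inj ?_).1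
    rw [hA', h4, act_one]
  · exact hT

/-- An element of `N` which fixes the two base points and interchanges the factors. -/
theorem exists_swap : ∃ s ∈ N, T2 (D.act s) ∧ (∀ x, ∃ y, D.act s (e0 x) = e0 y) ∧
    (∀ x, ∃ y, D.act s (e3 x) = e3 y) := by
  obtain ⟨s, hs, hT⟩ := exists_T2 (D := D) hN ht0 ht1
  have hm := nm (D := D) hN hs
  obtain ⟨A, B, c, hc⟩ := exists_e0 (hm.det_eq_zero ht0 ht1 (det_e0 1))
  obtain ⟨a, ha, haA⟩ := lift_act (D := D) hN A⁻¹ B⁻¹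
  have hs1 : a * s ∈ N := mul_mem ha hs
  have h1 : ∀ X, D.act (a * s) X = Tens.act A⁻¹ B⁻¹ (D.act s X) := fun X => by
    rw [act_mul hN ha hs, haA]
  have hT1 : T2 (D.act (a * s)) := by
    have := T2_act_comp hT A⁻¹ B⁻¹
    have e : D.act (a * s) = fun X => Tens.act A⁻¹ B⁻¹ (D.act s X) := funext h1
    rwa [e]
  have hm1 := nm (D := D) hN hs1
  have h0 : ∀ x, ∃ y, D.act (a * s) (e0 x) = e0 y :=
    hm1.fix0 ht0 ht1 one_ne_zero (d := c) (by rw [h1, hc, Tens.act_inv_act])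
  obtain ⟨b, d, hbd⟩ := hm1.opp ht0 ht1 h0
  obtain ⟨w, hw, hwA⟩ := lift_act (D := D) hN (up b) (up d)
  have h2 : ∀ X, D.act (w * (a * s)) X = Tens.act (up b) (up d) (D.act (a * s) X) := fun X => by
    rw [act_mul hN hw hs1, hwA]
  refine ⟨w * (a * s), mul_mem hw hs1, ?_, ?_, ?_⟩
  · have := T2_act_comp hT1 (up b) (up d)
    have e : D.act (w * (a * s)) = fun X => Tens.act (up b) (up d) (D.act (a * s) X) := funext h2
    rwa [e]
  · intro x
    obtain ⟨y, hy⟩ := h0 x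
    exact ⟨y, by rw [h2, hy, act_up_e0]⟩
  · intro x
    obtain ⟨y, hy⟩ := hbd x
    exact ⟨y, by rw [h2, hy, act_up_up]⟩

end

/-- The context at the base point. -/
structure Cx (D : PlusQ F N V) : Prop where
  hN : ∀ m ∈ N, Mv m V V
  V_Q : ¬ V ≤ QQ D.R0
  char2 : centralizer (QQ D.R0 : Set G) ≤ QQ D.R0
  Q_N : QQ D.R0 ≤ N
  three : ∃ t : F, t ≠ 0 ∧ t ≠ 1

namespace Cx

variable [Finite G] {D : PlusQ F N V} (h : Cx D)
include h

theorem Q_fix {y : G} (hy : y ∈ QQ D.R0) : ∀ x, ∃ z, D.act y (e0 x) = e0 z :=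
  (fix_iff h.hN (h.Q_N hy)).1 (Mv.of_nor (Cfsg.Agent.ZN.o2_le _ hy))

theorem mv_Q {g : G} (hg : g ∈ N) (h0 : ∀ x, ∃ z, D.act g (e0 x) = e0 z) {y : G} (hy : y ∈ QQ D.R0) :
    g * y * g⁻¹ ∈ QQ D.R0 := (((fix_iff h.hN hg).2 h0).QQ y).1 hy

theorem exists_order {y : G} (hy : y ∈ QQ D.R0) : ∃ k : ℕ, ∀ X, (D.act y)^[2 ^ k] X = X := by
  obtain ⟨k, hk⟩ := Cfsg.Agent.Omega.NOne.LemmaT.exists_pow_eq_one
    (Cfsg.Agent.ZN.isPGroup_o2 (normalizer (D.R0 : Set G)))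
  refine ⟨k, fun X => ?_⟩
  rw [act_pow h.hN (h.Q_N hy), hk y hy, act]
  have e : 1 * D.v X * (1 : G)⁻¹ = D.v X := by group
  rw [e, D.e_v]

/-- `[y, t] ∈ U₀` for `y ∈ Q` and a torus element `t` -/
theorem htor {y : G} (hy : y ∈ QQ D.R0) (l m : Fˣ) : ∃ a b, ∀ X,
    D.act y (Tens.act (tor l) (tor m) X) = Tens.act (up a * tor l) (up b * tor m) (D.act y X) := by
  have hyN := h.Q_N hy
  have hm := nm (D := D) h.hN hyN
  obtain ⟨t, ht, htA⟩ := lift_act (D := D) h.hN (tor l) (tor m)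
  obtain ⟨A, B, hAB⟩ := hm.nor (tor l) (tor m)
  have ht0 : ∀ x, ∃ z, D.act t⁻¹ (e0 x) = e0 z := by
    have h1 : ∀ x, ∃ z, D.act t (e0 x) = e0 z := fun x => ⟨l * m * x, by rw [htA, act_tor_e0]⟩
    exact (fix_iff h.hN (inv_mem ht)).1 ((fix_iff h.hN ht).2 h1).inv
  have ht0' : ∀ x, ∃ z, D.act t (e0 x) = e0 z := fun x => ⟨l * m * x, by rw [htA, act_tor_e0]⟩
  -- `c = y t y⁻¹ t⁻¹ ∈ Q`
  set c := y * t * y⁻¹ * t⁻¹ with hc
  have hcQ : c ∈ QQ D.R0 := by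
    have e : c = y * (t * y⁻¹ * t⁻¹) := by rw [hc]; group
    rw [e]
    exact mul_mem hy (h.mv_Q ht ht0' (inv_mem hy))
  have hcA : ∀ X, D.act c X = Tens.act (A * (tor l)⁻¹) (B * (tor m)⁻¹) X := by
    intro X
    have hct : D.act (c * t * y) (D.act y⁻¹ (Tens.act (tor l)⁻¹ (tor m)⁻¹ X)) = D.act c X := by
      rw [act_mul h.hN (mul_mem (h.Q_N hcQ) ht) hyN, act_act_inv h.hN hyN,
        act_mul h.hN (h.Q_N hcQ) ht, htA, Tens.act_act_inv]
    rw [← hct]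
    have e : c * t * y = y * t := by rw [hc]; group
    rw [e, act_mul h.hN hyN ht, htA, hAB, hm.right, act_act]
  obtain ⟨k, hk⟩ := h.exists_order hcQ
  have hcA' : D.act c = Tens.act (A * (tor l)⁻¹) (B * (tor m)⁻¹) := funext hcA
  obtain ⟨d, hd⟩ := h.Q_fix hcQ 1
  rw [hcA'] at hk hd
  obtain ⟨u1, u2⟩ := two_L one_ne_zero hd hk
  refine ⟨(A * (tor l)⁻¹).1 0 1, (B * (tor m)⁻¹).1 0 1, fun X => ?_⟩
  rw [← u1, ← u2, inv_mul_cancel_right, inv_mul_cancel_right, hAB]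

variable [Finite F]

/-- **`Q` induces a subgroup of `U₀`.** -/
theorem U {y : G} (hy : y ∈ QQ D.R0) : ∃ a b, ∀ X, D.act y X = Tens.act (up a) (up b) X := by
  obtain ⟨t, ht0, ht1⟩ := h.three
  have hyN := h.Q_N hy
  have hm := nm (D := D) h.hN hyN
  obtain ⟨k, hk⟩ := h.exists_order hy
  rcases hm.dich ht0 ht1 with hT | hT
  · exact hm.mem_U ht0 ht1 hT (h.Q_fix hy) hk fun l => h.htor hy l l⁻¹
  · exfalso
    obtain ⟨B', hB'⟩ := hT.1 (tor (Units.mk0 t ht0))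
    obtain ⟨a, b, hab⟩ := h.htor hy (Units.mk0 t ht0) 1
    rw [tor_one] at hab
    have h1 : ∀ X, Tens.act 1 B' X = Tens.act (up a * tor (Units.mk0 t ht0)) (up b * 1) X := fun X => by
      have := hab (D.act y⁻¹ X)
      rw [hB', hm.right] at this
      exact this
    have h2 := (act_unique h1).1
    have h3 := congrArg (fun A : SL F => A.1 0 0) h2
    have h4 : (up a * tor (Units.mk0 t ht0)).1 = (up a).1 * (tor (Units.mk0 t ht0)).1 := rfl
    simp only [h4, up_val, tor_val, Matrix.mul_apply, Fin.sum_univ_two] at h3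
    simp at h3
    exact ht1 h3.symm

/-- the pairs which occur -/
theorem U_surj (a b : F) : ∃ y ∈ QQ D.R0, ∀ X, D.act y X = Tens.act (up a) (up b) X := by
  obtain ⟨t, ht0, ht1⟩ := h.three
  -- a nontrivial pair
  obtain ⟨y, hy, a0, b0, hyA, hne⟩ : ∃ y ∈ QQ D.R0, ∃ a0 b0 : F,
      (∀ X, D.act y X = Tens.act (up a0) (up b0) X) ∧ ¬ (a0 = 0 ∧ b0 = 0) := by
    by_contra hcon
    push Not at hcon
    apply h.V_Q
    refine le_trans ?_ h.char2
    intro v hv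
    rw [mem_centralizer_iff]
    intro y hy
    obtain ⟨a0, b0, hyA⟩ := h.U hy
    obtain ⟨ha, hb⟩ := hcon y hy a0 b0 hyA
    have h1 : ∀ X, D.act y X = X := fun X => by rw [hyA, ha, hb, up_zero, act_one]
    exact (mem_centralizer_iff.1 ((act_one_iff h.hN (h.Q_N hy)).1 h1) v hv).symm
  -- the swap
  obtain ⟨s, hs, hsT, hs0, hs3⟩ := exists_swap (D := D) h.hN ht0 ht1
  have hms := nm (D := D) h.hN hs
  obtain ⟨a1, ha1⟩ := hms.un2_left hsT hs0 a0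
  obtain ⟨b1, hb1⟩ := hms.un2_right hsT hs0 b0
  have hys : s * y * s⁻¹ ∈ QQ D.R0 := h.mv_Q hs hs0 hy
  have hysA : ∀ X, D.act (s * y * s⁻¹) X = Tens.act (up b1) (up a1) X := by
    intro X
    rw [act_mul h.hN (mul_mem hs (h.Q_N hy)) (inv_mem hs), act_mul h.hN hs (h.Q_N hy), hyA, act_split,
      ha1, hb1, hms.right, act_act, one_mul, mul_one]
  have ha01 : a0 ≠ 0 → a1 ≠ 0 := by
    intro ha h1
    apply ha
    rw [h1, up_zero] at ha1
    have h2 : ∀ X, Tens.act (up a0) 1 X = X := fun X => hms.inj (by rw [ha1, act_one])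
    have h3 := (act_eq_one h2).1
    rw [← up_zero] at h3
    exact up_inj h3
  have hb01 : b0 ≠ 0 → b1 ≠ 0 := by
    intro ha h1
    apply ha
    rw [h1, up_zero] at hb1
    have h2 : ∀ X, Tens.act 1 (up b0) X = X := fun X => hms.inj (by rw [hb1, act_one])
    have h3 := (act_eq_one h2).2
    rw [← up_zero] at h3
    exact up_inj h3
  have hadd : ∀ a b a' b' : F, (∃ y ∈ QQ D.R0, ∀ X, D.act y X = Tens.act (up a) (up b) X) →
      (∃ y ∈ QQ D.R0, ∀ X, D.act y X = Tens.act (up a') (up b') X) →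
      ∃ y ∈ QQ D.R0, ∀ X, D.act y X = Tens.act (up (a + a')) (up (b + b')) X := by
    rintro a b a' b' ⟨y, hy, hyA⟩ ⟨z, hz, hzA⟩
    refine ⟨y * z, mul_mem hy hz, fun X => ?_⟩
    rw [act_mul h.hN (h.Q_N hy) (h.Q_N hz), hyA, hzA, act_act, up_add, up_add]
  have htor : ∀ (l m : Fˣ) (a b : F), (∃ y ∈ QQ D.R0, ∀ X, D.act y X = Tens.act (up a) (up b) X) →
      ∃ y ∈ QQ D.R0, ∀ X, D.act y X = Tens.act (up (l * l * a)) (up (m * m * b)) X := by
    rintro l m a b ⟨y, hy, hyA⟩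
    obtain ⟨t, ht, htA⟩ := lift_act (D := D) h.hN (tor l) (tor m)
    have ht0' : ∀ x, ∃ z, D.act t (e0 x) = e0 z := fun x => ⟨l * m * x, by rw [htA, act_tor_e0]⟩
    refine ⟨t * y * t⁻¹, h.mv_Q ht ht0' hy, fun X => ?_⟩
    rw [act_mul h.hN (mul_mem ht (h.Q_N hy)) (inv_mem ht), act_mul h.hN ht (h.Q_N hy), hyA, htA,
      tor_act_up]
    congr 1
    rw [← htA, act_act_inv h.hN ht]
  rcases not_and_or.1 hne with h0 | h0
  · exact irr ht0 ht1 hadd htor ⟨y, hy, hyA⟩ h0 ⟨_, hys, hysA⟩ (ha01 h0) a b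
  · exact irr ht0 ht1 hadd htor ⟨_, hys, hysA⟩ (hb01 h0) ⟨y, hy, hyA⟩ h0 a b

/-- `v ∈ N_G(R)` -/
theorem V_nor {v : G} (hv : v ∈ V) : v ∈ normalizer (D.R0 : Set G) :=
  (Mv.of_comm fun a ha => D.comm hv (R0_le ha)).mem_nor

/-- `[v,y] ∈ V ∩ Q` -/
theorem com_mem {v y : G} (hv : v ∈ V) (hy : y ∈ QQ D.R0) : y * v * y⁻¹ * v⁻¹ ∈ V ⊓ QQ D.R0 := by
  refine ⟨V.mul_mem ((h.hN y (h.Q_N hy) v).1 hv) (V.inv_mem hv), ?_⟩
  have e : y * v * y⁻¹ * v⁻¹ = y * (v * y⁻¹ * v⁻¹) := by group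
  rw [e]
  exact (QQ D.R0).mul_mem hy (((Mv.of_nor (h.V_nor hv)).QQ _).1 ((QQ D.R0).inv_mem hy))

theorem e_com {v y : G} (hv : v ∈ V) (hy : y ∈ QQ D.R0) :
    D.e (y * v * y⁻¹ * v⁻¹) = D.act y (D.e v) - D.e v := by
  rw [D.mul _ ((h.hN y (h.Q_N hy) v).1 hv) _ (inv_mem hv), D.e_inv hv, act_e h.hN (h.Q_N hy) hv,
    sub_eq_add_neg]

theorem com_v (X : M2 F) {y : G} (hy : y ∈ QQ D.R0) : D.v (D.act y X - X) ∈ QQ D.R0 := by
  have h1 := (h.com_mem (D.v_mem X) hy).2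
  have h2 := h.e_com (D.v_mem X) hy
  rw [D.e_v] at h2
  rw [← h2, D.v_e (h.com_mem (D.v_mem X) hy).1]
  exact h1

theorem e1_mem (c : F) : D.v (e1 c) ∈ QQ D.R0 := by
  obtain ⟨y, hy, hyA⟩ := h.U_surj c 0
  have h1 := h.com_v (e3 1) hy
  have e : D.act y (e3 1) - e3 1 = e1 c := by
    rw [hyA, act_up]; apply ext2 <;> simp [e1, e3]
  rwa [e] at h1

theorem e2_mem (c : F) : D.v (e2 c) ∈ QQ D.R0 := by
  obtain ⟨y, hy, hyA⟩ := h.U_surj 0 c
  have h1 := h.com_v (e3 1) hy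
  have e : D.act y (e3 1) - e3 1 = e2 c := by
    rw [hyA, act_up]; apply ext2 <;> simp [e2, e3]
  rwa [e] at h1

theorem e0_mem (c : F) : D.v (e0 c) ∈ QQ D.R0 := by
  obtain ⟨y, hy, hyA⟩ := h.U_surj c 0
  have h1 := h.com_v (e2 1) hy
  have e : D.act y (e2 1) - e2 1 = e0 c := by
    rw [hyA, act_up]; apply ext2 <;> simp [e0, e2]
  rwa [e] at h1

theorem perp_le {v : G} (hv : v ∈ V) (h0 : D.e v 1 1 = 0) : v ∈ QQ D.R0 := by
  have e : D.e v = e0 (D.e v 0 0) + e1 (D.e v 0 1) + e2 (D.e v 1 0) := by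
    conv_lhs => rw [e_sum (D.e v), h0, e3_zero, add_zero]
  have e' : v = D.v (e0 (D.e v 0 0)) * D.v (e1 (D.e v 0 1)) * D.v (e2 (D.e v 1 0)) := by
    rw [← D.v_add, ← D.v_add, ← e, D.v_e hv]
  rw [e']
  exact mul_mem (mul_mem (h.e0_mem _) (h.e1_mem _)) (h.e2_mem _)

/-- `V ∩ Q = R^⊥` -/
theorem mem_E {v : G} (hv : v ∈ V) : v ∈ QQ D.R0 ↔ D.e v 1 1 = 0 := by
  refine ⟨fun hvQ => ?_, h.perp_le hv⟩
  by_contra hne
  apply h.V_Q
  intro w hw
  by_cases hw0 : D.e w 1 1 = 0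
  · exact h.perp_le hw hw0
  -- a torus element maps `v` to an element with the same last entry as `w`
  have hl : (D.e v 1 1) * (D.e w 1 1)⁻¹ ≠ 0 := mul_ne_zero hne (inv_ne_zero hw0)
  obtain ⟨t, ht, htA⟩ := lift_act (D := D) h.hN (tor (Units.mk0 _ hl)) (tor 1)
  have ht0' : ∀ x, ∃ z, D.act t (e0 x) = e0 z := fun x => ⟨_ , by rw [htA, act_tor_e0]⟩
  have h1 := h.mv_Q ht ht0' hvQ
  have h2 : t * v * t⁻¹ ∈ V := (h.hN t ht v).1 hv
  have h3 : D.e (t * v * t⁻¹) 1 1 = D.e w 1 1 := by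
    rw [← act_e h.hN ht hv, htA, act_tor]
    simp
    field_simp
  have h4 : (t * v * t⁻¹)⁻¹ * w ∈ QQ D.R0 := by
    refine h.perp_le (mul_mem (inv_mem h2) hw) ?_
    rw [D.mul _ (inv_mem h2) _ hw, D.e_inv h2]
    simp [h3]
  have h5 := mul_mem h1 h4
  have e : t * v * t⁻¹ * ((t * v * t⁻¹)⁻¹ * w) = w := by group
  rwa [e] at h5

end Cx

end Cfsg.Agent.Omega.NO1.PlusQ

end

section


/-!
# Type (γ) of the leaf N1: all points (helper914)

`D.RA A B = {v | e v ∈ act A B (F E₁₁)}`, `D.R i j = D.RA (rep i) (rep j)` for `i j : Option F`.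
-/

set_option autoImplicit false
set_option linter.unusedSectionVars false

namespace Cfsg.Agent.Omega.NO1.PlusQ

open Subgroup Cfsg Matrix
open Cfsg.Agent.Omega.NO1.Tens
open Cfsg.Agent.Omega.NO1.BetaPlus (Mv QQ)
open Cfsg.Agent.ZN (o2)

universe u

variable {G : Type u} [Group G] {F : Type} [Field F] {N V : Subgroup G}

/-- the point `act A B (F E₁₁)` -/
def RA (D : PlusQ F N V) (A B : SL F) : Subgroup G where
  carrier := {w | w ∈ V ∧ ∃ c, D.e w = Tens.act A B (e0 c)}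
  one_mem' := ⟨one_mem _, 0, by rw [D.e_one, e0_zero, act_zero]⟩
  mul_mem' := by
    rintro x y ⟨hx, c, hc⟩ ⟨hy, d, hd⟩
    exact ⟨mul_mem hx hy, c + d, by rw [D.mul x hx y hy, hc, hd, e0_add, Tens.act_add]⟩
  inv_mem' := by
    rintro x ⟨hx, c, hc⟩
    refine ⟨inv_mem hx, -c, ?_⟩
    have e : (e0 (-c) : M2 F) = - e0 c := by apply ext2 <;> simp [e0]
    rw [D.e_inv hx, hc, e]
    simp [Tens.act]

variable {D : PlusQ F N V}

theorem mem_RA {A B : SL F} {w : G} : w ∈ D.RA A B ↔ w ∈ V ∧ ∃ c, D.e w = Tens.act A B (e0 c) := Iff.rfl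

theorem RA_one : D.RA 1 1 = D.R0 := by
  ext w
  rw [mem_RA, mem_R0]
  simp [Tens.act]

theorem RA_Bo (A B : SL F) {T T' : SL F} (hT : Bo T) (hT' : Bo T') : D.RA (A * T) (B * T') = D.RA A B := by
  ext w
  rw [mem_RA, mem_RA]
  refine and_congr_right fun hw => ⟨?_, ?_⟩
  · rintro ⟨c, hc⟩
    exact ⟨T.1 0 0 * T'.1 0 0 * c, hc.trans (by rw [← act_act, act_Bo hT hT'])⟩
  · rintro ⟨c, hc⟩
    refine ⟨(T.1 0 0 * T'.1 0 0)⁻¹ * c, hc.trans ?_⟩
    rw [← act_act, act_Bo hT hT', ← mul_assoc, mul_inv_cancel₀ (mul_ne_zero hT.ne hT'.ne), one_mul]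

theorem RA_le (A B : SL F) : D.RA A B ≤ V := fun _ h => h.1

variable [CharP F 2]

theorem RA_wy : D.RA wy wy = D.R3 := by
  ext w
  rw [mem_RA, mem_R3]
  simp only [act_wy_e0]

/-- the points -/
def R (D : PlusQ F N V) (i j : Option F) : Subgroup G := D.RA (rep i) (rep j)

theorem R_none : D.R none none = D.R0 := RA_one

theorem R_zero : D.R (some 0) (some 0) = D.R3 := by rw [R, rep_zero, RA_wy]

theorem exists_R (A B : SL F) : ∃ i j T T', Bo T ∧ Bo T' ∧ A = rep i * T ∧ B = rep j * T' ∧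
    D.RA A B = D.R i j := by
  obtain ⟨i, T, hT, e⟩ := exists_rep A
  obtain ⟨j, T', hT', e'⟩ := exists_rep B
  exact ⟨i, j, T, T', hT, hT', e, e', by rw [e, e', RA_Bo _ _ hT hT']; rfl⟩

section

variable (hN : ∀ m ∈ N, Mv m V V)
include hN

/-- `m` acts as `(A, B)` -/
theorem exists_lift (A B : SL F) : ∃ m ∈ N, ∀ X, D.act m X = Tens.act A B X := lift_act hN A B

theorem act_inv_of {m : G} (hm : m ∈ N) {A B : SL F} (h : ∀ X, D.act m X = Tens.act A B X) (X : M2 F) :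
    D.act m⁻¹ X = Tens.act A⁻¹ B⁻¹ X := by
  apply (nm (D := D) hN hm).inj
  rw [act_act_inv hN hm, h, Tens.act_act_inv]

/-- the coordinates moved by `m`, which acts as `(A, B)` -/
theorem conj_RA {m : G} (hm : m ∈ N) {A B : SL F} (h : ∀ X, D.act m X = Tens.act A B X) (C E : SL F) :
    (D.conj hN m hm).RA C E = D.RA (A * C) (B * E) := by
  ext w
  rw [mem_RA, mem_RA, conj_e]
  refine and_congr_right fun hw => ?_
  have h1 : D.e (m⁻¹ * w * m) = Tens.act A⁻¹ B⁻¹ (D.e w) := by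
    rw [← act_inv_of hN hm h, act_e hN (inv_mem hm) hw, inv_inv]
  rw [h1]
  refine exists_congr fun c => ?_
  rw [← act_act]
  constructor
  · intro h2; rw [← h2, Tens.act_act_inv]
  · intro h2; rw [h2, Tens.act_inv_act]

theorem conj_e_eq {m : G} (hm : m ∈ N) {A B : SL F} (h : ∀ X, D.act m X = Tens.act A B X) {w : G} (hw : w ∈ V) :
    (D.conj hN m hm).e w = Tens.act A⁻¹ B⁻¹ (D.e w) := by
  rw [conj_e, ← act_inv_of hN hm h, act_e hN (inv_mem hm) hw, inv_inv]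

theorem conj_act {m : G} (hm : m ∈ N) {A B : SL F} (h : ∀ X, D.act m X = Tens.act A B X) {g : G} (hg : g ∈ N)
    (X : M2 F) : (D.conj hN m hm).act g X = Tens.act A⁻¹ B⁻¹ (D.act g (Tens.act A B X)) := by
  have h1 : g * (m * D.v X * m⁻¹) * g⁻¹ ∈ V := (hN g hg _).1 ((hN m hm _).1 (D.v_mem X))
  rw [act, conj_v, conj_e_eq hN hm h h1, ← act_e hN hg ((hN m hm _).1 (D.v_mem X)),
    ← act_e hN hm (D.v_mem X), D.e_v, h]

end

end Cfsg.Agent.Omega.NO1.PlusQ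

end

end

-- merged: Cfsg.Agent.Mrg.Omega.NO1.Tens.Loc
section

section


/-!
# Type (γ) of the leaf N1: the facts of THEOREM BETA at the base point (helper914)
-/

set_option autoImplicit false
set_option linter.unusedSectionVars false

namespace Cfsg.Agent.Omega.NO1.PlusQ

open Subgroup Cfsg Matrix
open Cfsg.Agent.Omega.NO1.Tens
open Cfsg.Agent.Omega.NO1.BetaPlus (Mv QQ)
open Cfsg.Agent.ZN (o2)

universe u

variable {G : Type u} [Group G] {F : Type} [Field F] {N V : Subgroup G}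

/-- the first coordinate of `y ∈ Q` -/
noncomputable def al (D : PlusQ F N V) (y : G) : F := D.act y (e3 1) 0 1

/-- the second coordinate of `y ∈ Q` -/
noncomputable def be (D : PlusQ F N V) (y : G) : F := D.act y (e3 1) 1 0

variable {D : PlusQ F N V} [CharP F 2]

theorem al_be {y : G} {a b : F} (h : ∀ X, D.act y X = Tens.act (up a) (up b) X) : D.al y = a ∧ D.be y = b := by
  constructor
  · rw [al, h, act_up]; simp [e3]
  · rw [be, h, act_up]; simp [e3]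

theorem R0_inf_R3 : D.R0 ⊓ D.R3 = ⊥ := by
  rw [eq_bot_iff]
  rintro w ⟨⟨hw, c, hc⟩, -, d, hd⟩
  rw [mem_bot]
  refine D.ker w hw ?_
  rw [hc] at hd
  have := congrArg (fun X : M2 F => X 0 0) hd
  simp [e0, e3] at this
  rw [hc, this, e0_zero]

namespace Cx

variable [Finite G] (h : Cx D)
include h

variable [Finite F]

theorem act_y {y : G} (hy : y ∈ QQ D.R0) (X : M2 F) : D.act y X = Tens.act (up (D.al y)) (up (D.be y)) X := by
  obtain ⟨a, b, hab⟩ := h.U hy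
  obtain ⟨e1, e2⟩ := al_be hab
  rw [e1, e2, hab]

theorem al_mul {y y' : G} (hy : y ∈ QQ D.R0) (hy' : y' ∈ QQ D.R0) :
    D.al (y * y') = D.al y + D.al y' ∧ D.be (y * y') = D.be y + D.be y' := by
  refine al_be (D := D) fun X => ?_
  rw [act_mul h.hN (h.Q_N hy) (h.Q_N hy'), h.act_y hy, h.act_y hy', act_act, up_add, up_add]

theorem al_inv {y : G} (hy : y ∈ QQ D.R0) : D.al y⁻¹ = D.al y ∧ D.be y⁻¹ = D.be y := by
  refine al_be (D := D) fun X => ?_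
  apply (nm (D := D) h.hN (h.Q_N hy)).inj
  rw [act_act_inv h.hN (h.Q_N hy), h.act_y hy, act_up_up]

theorem mem_C_iff {y : G} (hy : y ∈ QQ D.R0) : y ∈ centralizer (V : Set G) ↔ D.al y = 0 ∧ D.be y = 0 := by
  rw [← act_one_iff (D := D) h.hN (h.Q_N hy)]
  constructor
  · intro h1
    exact al_be (D := D) fun X => by rw [h1, up_zero, act_one]
  · rintro ⟨e1, e2⟩ X
    rw [h.act_y hy, e1, e2, up_zero, act_one]

theorem al_surj (a b : F) : ∃ y ∈ QQ D.R0, D.al y = a ∧ D.be y = b := by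
  obtain ⟨y, hy, hyA⟩ := h.U_surj a b
  exact ⟨y, hy, al_be hyA⟩

theorem RQ {r : G} (hr : r ∈ D.R0) {y : G} (hy : y ∈ QQ D.R0) : r * y = y * r := by
  obtain ⟨hrV, c, hc⟩ := hr
  have h1 : y * r * y⁻¹ = r := by
    refine D.e_inj ((h.hN y (h.Q_N hy) r).1 hrV) hrV ?_
    rw [← act_e h.hN (h.Q_N hy) hrV, hc, h.act_y hy, act_up_e0]
  calc r * y = (y * r * y⁻¹) * y := by rw [h1]
    _ = y * r := by group

/-- `[v, y]` in coordinates -/
theorem e_com' {v y : G} (hv : v ∈ V) (hy : y ∈ QQ D.R0) :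
    D.e (v⁻¹ * y⁻¹ * v * y) = Tens.act (up (D.al y)) (up (D.be y)) (D.e v) - D.e v := by
  have h1 : y⁻¹ * v * y⁻¹⁻¹ ∈ V := (h.hN _ (inv_mem (h.Q_N hy)) v).1 hv
  have e : v⁻¹ * y⁻¹ * v * y = v⁻¹ * (y⁻¹ * v * y⁻¹⁻¹) := by group
  rw [e, D.mul _ (inv_mem hv) _ h1, D.e_inv hv, ← act_e h.hN (inv_mem (h.Q_N hy)) hv,
    h.act_y (inv_mem hy), (h.al_inv hy).1, (h.al_inv hy).2]
  abel

theorem com_V {v y : G} (hv : v ∈ V) (hy : y ∈ QQ D.R0) : v⁻¹ * y⁻¹ * v * y ∈ V := by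
  have h1 : y⁻¹ * v * y⁻¹⁻¹ ∈ V := (h.hN _ (inv_mem (h.Q_N hy)) v).1 hv
  have e : v⁻¹ * y⁻¹ * v * y = v⁻¹ * (y⁻¹ * v * y⁻¹⁻¹) := by group
  rw [e]; exact mul_mem (inv_mem hv) h1

theorem com_perp (a b : F) {X : M2 F} (hX : X 1 1 = 0) :
    Tens.act (up a) (up b) X - X = e0 (a * X 1 0 + b * X 0 1) := by
  have _ := h
  rw [act_up]
  apply ext2 <;> simp [e0, hX]
  ring

theorem EQ {e : G} (he : e ∈ V ⊓ QQ D.R0) {y : G} (hy : y ∈ QQ D.R0) : e⁻¹ * y⁻¹ * e * y ∈ D.R0 := by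
  exact ⟨h.com_V he.1 hy, D.al y * D.e e 1 0 + D.be y * D.e e 0 1, by
    rw [h.e_com' he.1 hy, h.com_perp _ _ ((h.mem_E he.1).1 he.2)]⟩

theorem EQs {y : G} (hy : y ∈ QQ D.R0) (hyV : y ∉ centralizer (V : Set G)) {r : G} (hr : r ∈ D.R0) :
    ∃ e ∈ V ⊓ QQ D.R0, e⁻¹ * y⁻¹ * e * y = r := by
  rw [h.mem_C_iff hy, not_and_or] at hyV
  obtain ⟨hrV, c, hc⟩ := hr
  rcases hyV with h0 | h0
  · refine ⟨D.v (e2 (c / D.al y)), ⟨D.v_mem _, h.e2_mem _⟩, ?_⟩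
    refine D.e_inj (h.com_V (D.v_mem _) hy) hrV ?_
    rw [h.e_com' (D.v_mem _) hy, D.e_v, h.com_perp _ _ (by simp [e2]), hc]
    congr 1
    simp [e2]
    rw [mul_div_cancel₀ _ h0]
  · refine ⟨D.v (e1 (c / D.be y)), ⟨D.v_mem _, h.e1_mem _⟩, ?_⟩
    refine D.e_inj (h.com_V (D.v_mem _) hy) hrV ?_
    rw [h.e_com' (D.v_mem _) hy, D.e_v, h.com_perp _ _ (by simp [e1]), hc]
    congr 1
    simp [e1]
    rw [mul_div_cancel₀ _ h0]

theorem cenR {v : G} (hv : v ∈ V) (hc : ∀ y ∈ QQ D.R0, v * y = y * v) : v ∈ D.R0 := by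
  refine ⟨hv, ?_⟩
  have key : ∀ a b, Tens.act (up a) (up b) (D.e v) = D.e v := by
    intro a b
    obtain ⟨y, hy, hyA⟩ := h.U_surj a b
    rw [← hyA, act_e h.hN (h.Q_N hy) hv, ← hc y hy, mul_inv_cancel_right]
  refine ⟨D.e v 0 0, eq_e0_of_fixed ?_ ?_⟩
  · have := key 1 0; rwa [up_zero] at this
  · have := key 0 1; rwa [up_zero] at this

theorem cardQ : (centralizer (V : Set G)).relIndex (QQ D.R0) = Nat.card (F × F) :=
  Beta.Inst.relIndex_eq_card (fun y => (D.al y, D.be y))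
    (fun x hx y hy => by
      obtain ⟨e1, e2⟩ := h.al_mul hx hy
      exact Prod.ext e1 e2)
    (fun a => by
      obtain ⟨y, hy, e1, e2⟩ := h.al_surj a.1 a.2
      exact ⟨y, hy, Prod.ext e1 e2⟩)
    (fun x hx => by
      rw [h.mem_C_iff hx, Prod.mk_eq_zero])

theorem cardE' : D.R0.relIndex (V ⊓ QQ D.R0) = Nat.card (F × F) :=
  Beta.Inst.relIndex_eq_card (fun y => (D.e y 0 1, D.e y 1 0))
    (fun x hx y hy => by
      rw [D.mul x hx.1 y hy.1]; rfl)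
    (fun a => ⟨D.v (e1 a.1 + e2 a.2), ⟨D.v_mem _, by
      rw [D.v_add]; exact mul_mem (h.e1_mem _) (h.e2_mem _)⟩, by simp [e1, e2]⟩)
    (fun x hx => by
      rw [Prod.mk_eq_zero, mem_R0]
      have h11 := (h.mem_E hx.1).1 hx.2
      constructor
      · rintro ⟨h1, h2⟩
        exact ⟨hx.1, D.e x 0 0, by apply ext2 <;> simp [e0, h1, h2, h11]⟩
      · rintro ⟨-, c, hc⟩
        rw [hc]; simp [e0])

theorem cardE : (centralizer (V : Set G)).relIndex (QQ D.R0) = D.R0.relIndex (V ⊓ QQ D.R0) := by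
  rw [h.cardQ, h.cardE']

theorem VE : V ≤ (V ⊓ QQ D.R0) ⊔ D.R3 := by
  intro v hv
  have e' : v = D.v (D.e v - e3 (D.e v 1 1)) * D.v (e3 (D.e v 1 1)) := by
    rw [← D.v_add, sub_add_cancel, D.v_e hv]
  rw [e']
  refine mul_mem (mem_sup_left (mem_inf.2 ⟨D.v_mem _, (h.mem_E (D.v_mem _)).2 ?_⟩)) (mem_sup_right (v_e3 _))
  rw [D.e_v]
  simp [e3]

/-- the swap at the two base points -/
theorem swap : ∃ s ∈ N, Mv s D.R0 D.R0 ∧ Mv s D.R3 D.R3 ∧ T2 (D.act s) ∧ (∀ x, ∃ y, D.act s (e0 x) = e0 y) ∧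
    ∀ y ∈ QQ D.R0, ∃ a b, (a = 0 ↔ D.al y = 0) ∧ (b = 0 ↔ D.be y = 0) ∧
      D.al (s * y * s⁻¹) = b ∧ D.be (s * y * s⁻¹) = a := by
  obtain ⟨t, ht0, ht1⟩ := h.three
  obtain ⟨s, hs, hsT, hs0, hs3⟩ := exists_swap (D := D) h.hN ht0 ht1
  have hms := nm (D := D) h.hN hs
  refine ⟨s, hs, (fix_iff h.hN hs).2 hs0, ?_, hsT, hs0, ?_⟩
  · refine Mv.of_le ?_ le_rfl
    rintro w ⟨hw, c, hc⟩
    obtain ⟨y, hy⟩ := hs3 c
    exact ⟨(h.hN s hs w).1 hw, y, by rw [← hy, ← hc, act_e h.hN hs hw]⟩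
  · intro y hy
    obtain ⟨a1, ha1⟩ := hms.un2_left hsT hs0 (D.al y)
    obtain ⟨b1, hb1⟩ := hms.un2_right hsT hs0 (D.be y)
    have hysA : ∀ X, D.act (s * y * s⁻¹) X = Tens.act (up b1) (up a1) X := by
      intro X
      rw [act_mul h.hN (mul_mem hs (h.Q_N hy)) (inv_mem hs), act_mul h.hN hs (h.Q_N hy), h.act_y hy, act_split,
        ha1, hb1, hms.right, act_act, one_mul, mul_one]
    refine ⟨a1, b1, ⟨fun h1 => ?_, fun h1 => ?_⟩, ⟨fun h1 => ?_, fun h1 => ?_⟩, al_be hysA⟩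
    · rw [h1, up_zero] at ha1
      have h2 : ∀ X, Tens.act (up (D.al y)) 1 X = X := fun X => hms.inj (by rw [ha1, act_one])
      have h3 := (act_eq_one h2).1
      rw [← up_zero] at h3
      exact up_inj h3
    · rw [h1, up_zero] at ha1
      have h2 : ∀ X, Tens.act 1 (up a1) X = X := fun X => by
        have := ha1 (D.act s⁻¹ X)
        rw [act_one, hms.right] at this
        exact this.symm
      have h3 := (act_eq_one h2).2
      rw [← up_zero] at h3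
      exact up_inj h3
    · rw [h1, up_zero] at hb1
      have h2 : ∀ X, Tens.act 1 (up (D.be y)) X = X := fun X => hms.inj (by rw [hb1, act_one])
      have h3 := (act_eq_one h2).2
      rw [← up_zero] at h3
      exact up_inj h3
    · rw [h1, up_zero] at hb1
      have h2 : ∀ X, Tens.act (up b1) 1 X = X := fun X => by
        have := hb1 (D.act s⁻¹ X)
        rw [act_one, hms.right] at this
        exact this.symm
      have h3 := (act_eq_one h2).1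
      rw [← up_zero] at h3
      exact up_inj h3

theorem irr {W : Subgroup G} (hW : W ≤ QQ D.R0)
    (hn : ∀ m ∈ N, Mv m D.R0 D.R0 → ∀ y ∈ W, m * y * m⁻¹ ∈ W) (hne : ¬ W ≤ centralizer (V : Set G))
    {y : G} (hy : y ∈ QQ D.R0) : ∃ n ∈ W, y⁻¹ * n ∈ centralizer (V : Set G) := by
  obtain ⟨t, ht0, ht1⟩ := h.three
  obtain ⟨y0, hy0, hy0C⟩ := SetLike.not_le_iff_exists.1 hne
  have hy0Q := hW hy0
  rw [h.mem_C_iff hy0Q, not_and_or] at hy0C
  obtain ⟨s, hs, hsR, hsR3, hsT, hs0, hsy⟩ := h.swap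
  obtain ⟨a1, b1, ha1, hb1, e1, e2⟩ := hsy y0 hy0Q
  have hadd : ∀ a b a' b' : F, (∃ y ∈ W, D.al y = a ∧ D.be y = b) → (∃ y ∈ W, D.al y = a' ∧ D.be y = b') →
      ∃ y ∈ W, D.al y = a + a' ∧ D.be y = b + b' := by
    rintro a b a' b' ⟨y, hy, rfl, rfl⟩ ⟨z, hz, rfl, rfl⟩
    exact ⟨y * z, mul_mem hy hz, h.al_mul (hW hy) (hW hz)⟩
  have htor : ∀ (l m : Fˣ) (a b : F), (∃ y ∈ W, D.al y = a ∧ D.be y = b) →
      ∃ y ∈ W, D.al y = l * l * a ∧ D.be y = m * m * b := by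
    rintro l m a b ⟨y, hy, rfl, rfl⟩
    obtain ⟨t, ht, htA⟩ := lift_act (D := D) h.hN (tor l) (tor m)
    have ht0' : ∀ x, ∃ z, D.act t (e0 x) = e0 z := fun x => ⟨l * m * x, by rw [htA, act_tor_e0]⟩
    refine ⟨t * y * t⁻¹, hn t ht ((fix_iff h.hN ht).2 ht0') y hy, al_be fun X => ?_⟩
    rw [act_mul h.hN (mul_mem ht (h.Q_N (hW hy))) (inv_mem ht), act_mul h.hN ht (h.Q_N (hW hy)), h.act_y (hW hy),
      htA, tor_act_up]
    congr 1
    rw [← htA, act_act_inv h.hN ht]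
  have hysW : s * y0 * s⁻¹ ∈ W := hn s hs hsR y0 hy0
  have key : ∃ n ∈ W, D.al n = D.al y ∧ D.be n = D.be y := by
    rcases hy0C with h0 | h0
    · exact Tens.irr ht0 ht1 (W := fun a b => ∃ y ∈ W, D.al y = a ∧ D.be y = b) hadd htor
        (a0 := D.al y0) (b0 := D.be y0) (a1 := b1) (b1 := a1) ⟨y0, hy0, rfl, rfl⟩ h0
        ⟨_, hysW, e1, e2⟩ (fun h1 => h0 (ha1.1 h1)) _ _
    · exact Tens.irr ht0 ht1 (W := fun a b => ∃ y ∈ W, D.al y = a ∧ D.be y = b) hadd htor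
        (a0 := b1) (b0 := a1) (a1 := D.al y0) (b1 := D.be y0) ⟨_, hysW, e1, e2⟩ (fun h1 => h0 (hb1.1 h1))
        ⟨y0, hy0, rfl, rfl⟩ h0 _ _
  obtain ⟨n, hn', en1, en2⟩ := key
  refine ⟨n, hn', ?_⟩
  rw [h.mem_C_iff (mul_mem (inv_mem hy) (hW hn')), (h.al_mul (inv_mem hy) (hW hn')).1,
    (h.al_mul (inv_mem hy) (hW hn')).2, (h.al_inv hy).1, (h.al_inv hy).2, en1, en2]
  exact ⟨CharTwo.add_self_eq_zero _, CharTwo.add_self_eq_zero _⟩

theorem mod_R {v w : G} (hv : v ∈ V ⊓ QQ D.R0) (hw : w ∈ V ⊓ QQ D.R0) :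
    v * w⁻¹ ∈ D.R0 ↔ D.e v 0 1 = D.e w 0 1 ∧ D.e v 1 0 = D.e w 1 0 := by
  have h1 := (h.mem_E hv.1).1 hv.2
  have h2 := (h.mem_E hw.1).1 hw.2
  rw [mem_R0, D.mul _ hv.1 _ (inv_mem hw.1), D.e_inv hw.1]
  constructor
  · rintro ⟨-, c, hc⟩
    have e1 := congrArg (fun X : M2 F => X 0 1) hc
    have e2 := congrArg (fun X : M2 F => X 1 0) hc
    simp [e0] at e1 e2
    exact ⟨by linear_combination e1, by linear_combination e2⟩
  · rintro ⟨e1, e2⟩
    refine ⟨mul_mem hv.1 (inv_mem hw.1), D.e v 0 0 - D.e w 0 0, ?_⟩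
    apply ext2 <;> simp [e0, e1, e2, h1, h2]
    ring

theorem alt (b : G → G) (hb : ∀ y ∈ QQ D.R0, b y ∈ V ⊓ QQ D.R0)
    (hadd : ∀ y ∈ QQ D.R0, ∀ y' ∈ QQ D.R0, b (y * y') * (b y * b y')⁻¹ ∈ D.R0)
    (hcomm : ∀ y ∈ QQ D.R0, b y * y = y * b y)
    (hC : ∀ y ∈ QQ D.R0, y ∈ centralizer (V : Set G) → b y ∈ D.R0) :
    ∃ r ∈ D.R3, ∀ y ∈ QQ D.R0, b y * (y⁻¹ * r⁻¹ * y * r)⁻¹ ∈ D.R0 := by
  have hadd' : ∀ y ∈ QQ D.R0, ∀ y' ∈ QQ D.R0, D.e (b (y * y')) 0 1 = D.e (b y) 0 1 + D.e (b y') 0 1 ∧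
      D.e (b (y * y')) 1 0 = D.e (b y) 1 0 + D.e (b y') 1 0 := by
    intro y hy y' hy'
    have h1 := (h.mod_R (hb _ (mul_mem hy hy')) (mul_mem (hb y hy) (hb y' hy'))).1 (hadd y hy y' hy')
    rw [D.mul _ (hb y hy).1 _ (hb y' hy').1] at h1
    exact h1
  have hC' : ∀ y ∈ QQ D.R0, y ∈ centralizer (V : Set G) → D.e (b y) 0 1 = 0 ∧ D.e (b y) 1 0 = 0 := by
    intro y hy hyC
    obtain ⟨-, c, hc⟩ := hC y hy hyC
    rw [hc]; simp [e0]
  -- well defined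
  have hwd : ∀ y ∈ QQ D.R0, ∀ y' ∈ QQ D.R0, D.al y = D.al y' → D.be y = D.be y' →
      D.e (b y) 0 1 = D.e (b y') 0 1 ∧ D.e (b y) 1 0 = D.e (b y') 1 0 := by
    intro y hy y' hy' e1 e2
    have h1 : y * y'⁻¹ ∈ centralizer (V : Set G) := by
      rw [h.mem_C_iff (mul_mem hy (inv_mem hy')), (h.al_mul hy (inv_mem hy')).1,
        (h.al_mul hy (inv_mem hy')).2, (h.al_inv hy').1, (h.al_inv hy').2, e1, e2]
      exact ⟨CharTwo.add_self_eq_zero _, CharTwo.add_self_eq_zero _⟩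
    have h2 := hadd' (y * y'⁻¹) (mul_mem hy (inv_mem hy')) y' hy'
    rw [inv_mul_cancel_right] at h2
    obtain ⟨h3, h4⟩ := hC' _ (mul_mem hy (inv_mem hy')) h1
    rw [h3, h4, zero_add, zero_add] at h2
    exact h2
  choose Y hYQ hY using h.al_surj
  have key : ∀ y ∈ QQ D.R0, D.e (b y) 0 1 = D.e (b (Y (D.al y) (D.be y))) 0 1 ∧
      D.e (b y) 1 0 = D.e (b (Y (D.al y) (D.be y))) 1 0 :=
    fun y hy => hwd y hy _ (hYQ _ _) (hY _ _).1.symm (hY _ _).2.symm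
  have hfg : ∀ a b' a' b'', D.e (b (Y (a + a') (b' + b''))) 0 1 = D.e (b (Y a b')) 0 1 + D.e (b (Y a' b'')) 0 1 ∧
      D.e (b (Y (a + a') (b' + b''))) 1 0 = D.e (b (Y a b')) 1 0 + D.e (b (Y a' b'')) 1 0 := by
    intro a b' a' b''
    obtain ⟨h1, h2⟩ := hadd' _ (hYQ a b') _ (hYQ a' b'')
    obtain ⟨h3, h4⟩ := h.al_mul (hYQ a b') (hYQ a' b'')
    rw [(hY a b').1, (hY a' b'').1] at h3
    rw [(hY a b').2, (hY a' b'').2] at h4
    obtain ⟨h5, h6⟩ := key _ (mul_mem (hYQ a b') (hYQ a' b''))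
    rw [h3, h4] at h5 h6
    rw [← h5, ← h6]
    exact ⟨h1, h2⟩
  obtain ⟨l, hl⟩ := Tens.alt (f := fun a b' => D.e (b (Y a b')) 0 1) (g := fun a b' => D.e (b (Y a b')) 1 0)
    (fun a b' a' b'' => (hfg a b' a' b'').1) (fun a b' a' b'' => (hfg a b' a' b'').2) (by
      intro a b'
      have h1 := hcomm _ (hYQ a b')
      have h2 : D.e ((b (Y a b'))⁻¹ * (Y a b')⁻¹ * b (Y a b') * (Y a b')) = 0 := by
        have e : (b (Y a b'))⁻¹ * (Y a b')⁻¹ * b (Y a b') * (Y a b') = 1 := by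
          rw [mul_assoc _ (b (Y a b')), h1]; group
        rw [e, D.e_one]
      rw [h.e_com' (hb _ (hYQ a b')).1 (hYQ a b'), h.com_perp _ _ ((h.mem_E (hb _ (hYQ a b')).1).1 (hb _ (hYQ a b')).2),
        (hY a b').1, (hY a b').2] at h2
      exact e0_inj (h2.trans e0_zero.symm))
  refine ⟨D.v (e3 l), v_e3 l, fun y hy => ?_⟩
  have hr : y⁻¹ * (D.v (e3 l))⁻¹ * y * D.v (e3 l) ∈ V := by
    have h1 : y⁻¹ * (D.v (e3 l))⁻¹ * y⁻¹⁻¹ ∈ V := (h.hN _ (inv_mem (h.Q_N hy)) _).1 (inv_mem (D.v_mem _))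
    rw [inv_inv] at h1
    exact mul_mem h1 (D.v_mem _)
  have hre : D.e (y⁻¹ * (D.v (e3 l))⁻¹ * y * D.v (e3 l)) =
      e3 l - Tens.act (up (D.al y)) (up (D.be y)) (e3 l) := by
    have h1 : y⁻¹ * (D.v (e3 l))⁻¹ * y⁻¹⁻¹ ∈ V := (h.hN _ (inv_mem (h.Q_N hy)) _).1 (inv_mem (D.v_mem _))
    have e : y⁻¹ * (D.v (e3 l))⁻¹ * y * D.v (e3 l) = (y⁻¹ * (D.v (e3 l))⁻¹ * y⁻¹⁻¹) * D.v (e3 l) := by group
    rw [e, D.mul _ h1 _ (D.v_mem _), ← act_e h.hN (inv_mem (h.Q_N hy)) (inv_mem (D.v_mem _)),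
      h.act_y (inv_mem hy), (h.al_inv hy).1, (h.al_inv hy).2, D.e_inv (D.v_mem _), D.e_v]
    simp [Tens.act]
    abel
  have hrQ : y⁻¹ * (D.v (e3 l))⁻¹ * y * D.v (e3 l) ∈ QQ D.R0 := by
    rw [h.mem_E hr, hre, act_up]; simp [e3]
  rw [h.mod_R (hb y hy) ⟨hr, hrQ⟩, hre, act_up]
  obtain ⟨h1, h2⟩ := key y hy
  obtain ⟨h3, h4⟩ := hl (D.al y) (D.be y)
  rw [h1, h2, h3, h4]
  simp [e3]
  constructor
  · rw [CharTwo.neg_eq, mul_comm]
  · rw [CharTwo.neg_eq, mul_comm]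

end Cx

end Cfsg.Agent.Omega.NO1.PlusQ

end

section


/-!
# Type (γ) of the leaf N1: the structure `Bp` of THEOREM BETA (helper914)
-/

set_option autoImplicit false
set_option linter.unusedSectionVars false

namespace Cfsg.Agent.Omega.NO1.PlusQ

open Subgroup Cfsg Matrix
open Cfsg.Agent.Omega.NO1.Tens
open Cfsg.Agent.Omega.NO1.BetaPlus (Mv QQ Bp)
open Cfsg.Agent.ZN (o2)

universe u

variable {G : Type u} [Group G] {F : Type} [Field F] {N V : Subgroup G}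

variable {D : PlusQ F N V} [CharP F 2]

/-- `g` moves the points as `(A, B)` -/
theorem mv_RA (hN : ∀ m ∈ N, Mv m V V) {g : G} (hg : g ∈ N) {A B : SL F}
    (h : ∀ X, D.act g X = Tens.act A B X) (C E : SL F) : Mv g (D.RA C E) (D.RA (A * C) (B * E)) := by
  intro w
  rw [mem_RA, mem_RA, ← hN g hg w]
  refine and_congr_right fun hw => exists_congr fun c => ?_
  rw [← act_e hN hg hw, h, ← act_act]
  constructor
  · intro h1; rw [h1]
  · intro h1; exact act_inj h1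

theorem not_Bo_of_ne {i k : Option F} (hik : i ≠ k) {A T T' : SL F} (hA : A = rep i * T) (hT : Bo T)
    (hT' : Bo T') : ¬ Bo (A⁻¹ * (rep k * T')) := by
  intro hB
  apply hik
  apply rep_inj
  have h1 := (hT.mul hB).mul hT'.inv
  have e : T * (A⁻¹ * (rep k * T')) * T'⁻¹ = (rep i)⁻¹ * rep k := by rw [hA]; group
  rwa [e] at h1

theorem not_Bo_dn {a : F} (ha : a ≠ 0) : ¬ Bo (wy⁻¹ * (up a * wy) : SL F) := by
  intro h
  apply ha
  rw [wy_inv] at h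
  have e : (wy * (up a * wy) : SL F).1 = wy.1 * ((up a).1 * wy.1) := rfl
  rw [Bo, e, wy_val, up_val] at h
  simp only [Matrix.mul_apply, Fin.sum_univ_two] at h
  simpa using h

namespace Cx

theorem conj (h : Cx D) {m : G} (hm : m ∈ N) [Finite G] : Cx (D.conj h.hN m hm) := by
  have hR := conj_R0 (D := D) h.hN hm
  have hQ := hR.QQ
  refine ⟨h.hN, fun hle => h.V_Q fun v hv => ?_, fun x hx => ?_, fun x hx => ?_, h.three⟩
  · exact (hQ v).2 (hle ((h.hN m hm v).1 hv))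
  · have h1 := (hQ.inv.cen x).1 hx
    exact (hQ.inv x).2 (h.char2 h1)
  · have h1 := h.Q_N ((hQ.inv x).1 hx)
    exact ((Mv.of_mem hm).inv x).2 h1

variable [Finite G]

/-- two opposite points -/
theorem two (h : Cx D) {i k j l : Option F} (hik : i ≠ k) (hjl : j ≠ l) :
    ∃ (D' : PlusQ F N V) (m : G) (A B T T' S S' : SL F), Cx D' ∧ D'.R0 = D.R i j ∧ D'.R3 = D.R k l ∧
      (∀ C E, D'.RA C E = D.RA (A * C) (B * E)) ∧ Bo T ∧ Bo T' ∧ Bo S ∧ Bo S' ∧ A = rep i * T ∧ B = rep j * T' ∧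
      A * wy = rep k * S ∧ B * wy = rep l * S' ∧ m ∈ N ∧ (∀ X, D.act m X = Tens.act A B X) ∧
      (∀ w ∈ V, D'.e w = Tens.act A⁻¹ B⁻¹ (D.e w)) ∧
      ∀ g ∈ N, ∀ X, D'.act g X = Tens.act A⁻¹ B⁻¹ (D.act g (Tens.act A B X)) := by
  obtain ⟨A, T, S, hT, hS, eA, eA'⟩ := exists_pair' hik
  obtain ⟨B, T', S', hT', hS', eB, eB'⟩ := exists_pair' hjl
  obtain ⟨m, hm, hmA⟩ := lift_act (D := D) h.hN A B
  have key := conj_RA h.hN hm hmA
  refine ⟨D.conj h.hN m hm, m, A, B, T, T', S, S', h.conj hm, ?_, ?_, key, hT, hT', hS, hS', eA, eB, eA', eB',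
    hm, hmA, fun w hw => conj_e_eq h.hN hm hmA hw, fun g hg X => conj_act h.hN hm hmA hg X⟩
  · rw [← RA_one, key, mul_one, mul_one, eA, eB, RA_Bo _ _ hT hT']; rfl
  · rw [← RA_wy, key, eA', eB', RA_Bo _ _ hS hS']; rfl

theorem exists_ne' (i k : Option F) (h : Cx D) : ∃ c : Option F, i ≠ c ∧ c ≠ k := by
  obtain ⟨t, ht0, ht1⟩ := h.three
  match i, k with
  | none, none => exact ⟨some 0, by simp, by simp⟩
  | none, some b =>
    by_cases hb : b = 0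
    · exact ⟨some 1, by simp, by simp [hb]⟩
    · exact ⟨some 0, by simp, by simpa using fun h => hb h.symm⟩
  | some a, none =>
    by_cases ha : a = 0
    · exact ⟨some 1, by simp [ha], by simp⟩
    · exact ⟨some 0, by simpa using ha, by simp⟩
  | some a, some b => exact ⟨none, by simp, by simp⟩

/-- single points -/
theorem one (h : Cx D) (i j : Option F) : ∃ (D' : PlusQ F N V) (k l : Option F), i ≠ k ∧ j ≠ l ∧ Cx D' ∧
    D'.R0 = D.R i j ∧ D'.R3 = D.R k l := by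
  obtain ⟨k, hk, -⟩ := exists_ne' i i h
  obtain ⟨l, hl, -⟩ := exists_ne' j j h
  obtain ⟨D', m, A, B, T, T', S, S', h1, h2, h3, -⟩ := h.two hk hl
  exact ⟨D', k, l, hk, hl, h1, h2, h3⟩

theorem perm (h : Cx D) {g : G} (hg : g ∈ N) (i j : Option F) : ∃ k l, Mv g (D.R i j) (D.R k l) := by
  obtain ⟨t, ht0, ht1⟩ := h.three
  obtain ⟨a, ha, haA⟩ := lift_act (D := D) h.hN (rep i) (rep j)
  have hag : g * a ∈ N := mul_mem hg ha
  obtain ⟨A, B, c, hc⟩ := exists_e0 ((nm (D := D) h.hN hag).det_eq_zero ht0 ht1 (det_e0 1))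
  obtain ⟨b, hb, hbA⟩ := lift_act (D := D) h.hN A B
  have hmem : b⁻¹ * (g * a) ∈ N := mul_mem (inv_mem hb) hag
  have h0 : D.act (b⁻¹ * (g * a)) (e0 1) = e0 c := by
    rw [act_mul h.hN (inv_mem hb) hag, hc, act_inv_of h.hN hb hbA, Tens.act_inv_act]
  have h1 := (fix_iff h.hN hmem).2 ((nm (D := D) h.hN hmem).fix0 ht0 ht1 one_ne_zero h0)
  have h2 := mv_RA h.hN ha haA 1 1
  have h3 := mv_RA h.hN hb hbA 1 1
  rw [mul_one, mul_one, RA_one] at h2 h3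
  have h4 := (h3.mul h1).mul h2.inv
  have e : b * (b⁻¹ * (g * a)) * a⁻¹ = g := by group
  rw [e] at h4
  obtain ⟨k, l, -, -, -, -, -, -, e2⟩ := exists_R (D := D) A B
  rw [e2] at h4
  exact ⟨k, l, h4⟩

variable [Finite F]

theorem mv_R3 (h : Cx D) {y : G} (hy : y ∈ QQ D.R0) :
    Mv y D.R3 (D.RA (up (D.al y) * wy) (up (D.be y) * wy)) := by
  rw [← RA_wy]
  exact mv_RA h.hN (h.Q_N hy) (h.act_y hy) _ _

theorem tran (h : Cx D) {i j i1 j1 i2 j2 : Option F} (h1 : i ≠ i1) (h2 : j ≠ j1) (h3 : i ≠ i2) (h4 : j ≠ j2) :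
    ∃ y ∈ QQ (D.R i j), Mv y (D.R i1 j1) (D.R i2 j2) := by
  obtain ⟨D', m, A, B, T, T', S, S', hD, eR0, eR3, hRA, hT, hT', hS, hS', eA, eB, eA', eB', -⟩ := h.two h1 h2
  obtain ⟨a, U, hU, eU⟩ := big (not_Bo_of_ne h3 eA hT Bo.one)
  obtain ⟨b, U', hU', eU'⟩ := big (not_Bo_of_ne h4 eB hT' Bo.one)
  obtain ⟨y, hy, hya, hyb⟩ := hD.al_surj a b
  refine ⟨y, by rwa [← eR0], ?_⟩
  have h5 := hD.mv_R3 hy
  rw [hya, hyb, eR3, ← RA_Bo _ _ hU hU', ← eU, ← eU', hRA] at h5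
  rw [mul_inv_cancel_left, mul_inv_cancel_left, mul_one, mul_one] at h5
  exact h5

/-- the points moved by `y ∈ Q` with both coordinates `≠ 0` -/
theorem half_mv (h : Cx D) {i j k l : Option F} {A B S S' : SL F} (hS : Bo S) (hS' : Bo S') (eA' : A * wy = rep k * S)
    (eB' : B * wy = rep l * S') {D' : PlusQ F N V} (hD : Cx D') (eR3 : D'.R3 = D.R k l)
    (hRA : ∀ C E, D'.RA C E = D.RA (A * C) (B * E)) {y : G} (hy : y ∈ QQ D'.R0) (ha : D'.al y ≠ 0)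
    (hb : D'.be y ≠ 0) : ∃ k' l', k ≠ k' ∧ l ≠ l' ∧ Mv y (D.R k l) (D.R k' l') := by
  have _ := h
  have h5 := hD.mv_R3 hy
  rw [eR3, hRA] at h5
  obtain ⟨k', l', U, U', hU, hU', e1, e2, e3⟩ := exists_R (D := D) (A * (up (D'.al y) * wy)) (B * (up (D'.be y) * wy))
  rw [e3] at h5
  refine ⟨k', l', ?_, ?_, h5⟩
  · rintro rfl
    apply not_Bo_dn ha
    have h6 : wy⁻¹ * (up (D'.al y) * wy) = S⁻¹ * U := by
      have h7 : A = rep k * S * wy⁻¹ := by rw [← eA', mul_inv_cancel_right]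
      rw [h7] at e1
      have h8 : rep k * (S * (wy⁻¹ * (up (D'.al y) * wy))) = rep k * U := by
        rw [← e1]; group
      have h9 := mul_left_cancel h8
      rw [← h9, inv_mul_cancel_left]
    rw [h6]
    exact hS.inv.mul hU
  · rintro rfl
    apply not_Bo_dn hb
    have h6 : wy⁻¹ * (up (D'.be y) * wy) = S'⁻¹ * U' := by
      have h7 : B = rep l * S' * wy⁻¹ := by rw [← eB', mul_inv_cancel_right]
      rw [h7] at e2
      have h8 : rep l * (S' * (wy⁻¹ * (up (D'.be y) * wy))) = rep l * U' := by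
        rw [← e2]; group
      have h9 := mul_left_cancel h8
      rw [← h9, inv_mul_cancel_left]
    rw [h6]
    exact hS'.inv.mul hU'

end Cx

/-- opposite points -/
def Op (p q : Option F × Option F) : Prop := p.1 ≠ q.1 ∧ p.2 ≠ q.2

/-- **The structure `Bp`.** -/
theorem bp [Finite G] [Finite F] (h : Cx D) (meet : ∀ W : Subgroup G, IsPGroup 2 W → W ≤ N →
    (∀ m ∈ N, ∀ y ∈ W, m * y * m⁻¹ ∈ W) → W ⊓ V = ⊥ → W = ⊥) :
    Bp F N V (fun p : Option F × Option F => D.R p.1 p.2) Op where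
  comm a ha b hb := D.comm ha hb
  sq a ha := D.sq ha
  M_V := h.hN
  R_le p := RA_le _ _
  RQ p r hr y hy := by
    obtain ⟨D', k, l, hk, hl, hD, e0, e3⟩ := h.one p.1 p.2
    rw [← e0] at hr hy
    exact hD.RQ hr hy
  ne p := by
    obtain ⟨D', k, l, hk, hl, hD, e0, e3⟩ := h.one p.1 p.2
    intro h1
    have h2 : Nat.card D'.R0 = 1 := by rw [e0, h1]; exact Subgroup.card_bot
    rw [card_R0] at h2
    have := (Nat.card_eq_one_iff_unique.1 h2).1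
    exact one_ne_zero (Subsingleton.elim (1 : F) 0)
  cardR p := by
    obtain ⟨D', k, l, hk, hl, hD, e0, e3⟩ := h.one p.1 p.2
    rw [← card_R0 (D := D'), e0]
  three := h.three
  disj p q hpq := by
    obtain ⟨D', m, A, B, T, T', S, S', hD, eR0, eR3, -⟩ := h.two hpq.1 hpq.2
    rw [← eR0, ← eR3]; exact R0_inf_R3
  symm p q hpq := ⟨hpq.1.symm, hpq.2.symm⟩
  conn p q := by
    obtain ⟨c, h1, h2⟩ := Cx.exists_ne' p.1 q.1 h
    obtain ⟨d, h3, h4⟩ := Cx.exists_ne' p.2 q.2 h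
    exact ⟨(c, d), ⟨h1, h3⟩, h2, h4⟩
  perm m hm p := by
    obtain ⟨k, l, h1⟩ := h.perm hm p.1 p.2
    exact ⟨(k, l), h1⟩
  tran p q r hpq hpr := h.tran hpq.1 hpq.2 hpr.1 hpr.2
  Q_M p := by
    obtain ⟨D', k, l, hk, hl, hD, e0, e3⟩ := h.one p.1 p.2
    rw [← e0]; exact hD.Q_N
  V_Q p := by
    obtain ⟨D', k, l, hk, hl, hD, e0, e3⟩ := h.one p.1 p.2
    rw [← e0]; exact hD.V_Q
  char2 p := by
    obtain ⟨D', k, l, hk, hl, hD, e0, e3⟩ := h.one p.1 p.2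
    rw [← e0]; exact hD.char2
  EQ p e he y hy := by
    obtain ⟨D', k, l, hk, hl, hD, e0, e3⟩ := h.one p.1 p.2
    rw [← e0] at he hy ⊢; exact hD.EQ he hy
  EQs p y hy hyV r hr := by
    obtain ⟨D', k, l, hk, hl, hD, e0, e3⟩ := h.one p.1 p.2
    rw [← e0] at hy hr ⊢; exact hD.EQs hy hyV hr
  cenR p v hv hc := by
    obtain ⟨D', k, l, hk, hl, hD, e0, e3⟩ := h.one p.1 p.2
    rw [← e0] at hc ⊢; exact hD.cenR hv hc
  cardE p := by
    obtain ⟨D', k, l, hk, hl, hD, e0, e3⟩ := h.one p.1 p.2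
    rw [← e0]; exact hD.cardE
  irr p W hW hn hne y hy := by
    obtain ⟨D', k, l, hk, hl, hD, e0, e3⟩ := h.one p.1 p.2
    rw [← e0] at hW hn hy; exact hD.irr hW hn hne hy
  meet := meet
  alt p q hpq b hb hadd hcomm hC := by
    obtain ⟨D', m, A, B, T, T', S, S', hD, eR0, eR3, -⟩ := h.two hpq.1 hpq.2
    rw [← eR0] at hb hadd hcomm hC ⊢
    rw [← eR3]
    exact hD.alt b hb hadd hcomm hC
  half p q hpq := by
    obtain ⟨D', m, A, B, T, T', S, S', hD, eR0, eR3, hRA, hT, hT', hS, hS', eA, eB, eA', eB', -⟩ := h.two hpq.1 hpq.2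
    rw [← eR0]
    refine ⟨D'.al, D'.be, fun y hy y' hy' => hD.al_mul hy hy', fun y hy => hD.mem_C_iff hy, hD.al_surj,
      fun y hy ha hb => ?_, ?_⟩
    · obtain ⟨k', l', h1, h2, h3⟩ := h.half_mv (i := p.1) (j := p.2) hS hS' eA' eB' hD eR3 hRA hy ha hb
      exact ⟨(k', l'), ⟨h1, h2⟩, h3⟩
    · obtain ⟨s, hs, hsR, hsR3, -, -, hsy⟩ := hD.swap
      refine ⟨s, hs, hsR, by rw [← eR3]; exact hsR3, fun y hy => ?_⟩
      obtain ⟨a, b, h1, h2, h3, h4⟩ := hsy y hy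
      rw [h3, h4]
      exact ⟨h2, h1⟩

end Cfsg.Agent.Omega.NO1.PlusQ

end

section


/-!
# Type (γ) of the leaf N1: the Sylow group, fields of `All.NOne.Core` (helper983)

`S` a Sylow 2-subgroup of `G` with `S ≤ N`, `S ≤ N_G(R₀)`.
* `Cx.s_triv`, `Cx.s_quo`, `Cx.s_two`, `Cx.s_cenE`, `Cx.s_bas`, `Cx.s_ns`;
* `Cx.s_swap` : `S` contains an element interchanging the factors.
-/

set_option autoImplicit false
set_option linter.unusedSectionVars false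

namespace Cfsg.Agent.Omega.NO1.PlusQ

open Subgroup Cfsg Matrix
open Cfsg.Agent.Omega.NO1.Tens
open Cfsg.Agent.Omega.NO1.BetaPlus (Mv QQ)
open Cfsg.Agent.ZN (o2)

universe u

variable {G : Type u} [Group G] {F : Type} [Field F] {N V : Subgroup G}

/-- the coordinates of `All.NOne.Core` -/
noncomputable def cE (D : PlusQ F N V) (a : F) (b : F × F) (d : F) : G := D.v !![a, b.1; b.2, d]

theorem e_cE (D : PlusQ F N V) (a : F) (b : F × F) (d : F) : D.e (D.cE a b d) = !![a, b.1; b.2, d] := D.e_v _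

theorem cE_mem (D : PlusQ F N V) (a : F) (b : F × F) (d : F) : D.cE a b d ∈ V := D.v_mem _

variable {D : PlusQ F N V}

section

variable (hN : ∀ m ∈ N, Mv m V V)
include hN

theorem conj_eq_iff {x : G} (hx : x ∈ N) {v w : G} (hv : v ∈ V) (hw : w ∈ V) :
    x * v * x⁻¹ = w ↔ D.act x (D.e v) = D.e w := by
  rw [act_e hN hx hv]
  exact ⟨fun h => by rw [h], fun h => D.e_inj ((hN x hx v).1 hv) hw h⟩

theorem e_comm_one {x : G} (hx : x ∈ N) (X : M2 F) :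
    D.e (x * D.v X * x⁻¹ * (D.v X)⁻¹) = D.act x X - X := by
  rw [D.mul _ ((hN x hx _).1 (D.v_mem X)) _ (inv_mem (D.v_mem X)), D.e_inv (D.v_mem X), D.e_v, sub_eq_add_neg]
  rfl

end

namespace Cx

variable [CharP F 2] [Finite G] [Finite F] (h : Cx D)
include h

section twoel

variable {x : G} (hx : x ∈ N) (hxR : x ∈ normalizer (D.R0 : Set G)) {k : ℕ} (hk : x ^ 2 ^ k = 1)
include hx hxR hk

theorem x_ord (X : M2 F) : (D.act x)^[2 ^ k] X = X := by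
  have _ := hxR
  rw [act_pow h.hN hx, hk, act]
  have e : 1 * D.v X * (1 : G)⁻¹ = D.v X := by group
  rw [e, D.e_v]

theorem x_triv (h1 : ∀ v ∈ V, x * v * x⁻¹ * v⁻¹ ∈ QQ D.R0) : x ∈ centralizer (D.R0 : Set G) := by
  obtain ⟨t, ht0, ht1⟩ := h.three
  have h0 := (fix_iff h.hN hx).1 (Mv.of_nor hxR)
  have hm := nm (D := D) h.hN hx
  have h2 : ∀ X, D.act x X 1 1 = X 1 1 := by
    intro X
    have h3 := h1 _ (D.v_mem X)
    have h4 : x * D.v X * x⁻¹ * (D.v X)⁻¹ ∈ V := mul_mem ((h.hN x hx _).1 (D.v_mem X)) (inv_mem (D.v_mem X))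
    rw [h.mem_E h4, e_comm_one (D := D) h.hN hx, Matrix.sub_apply] at h3
    exact sub_eq_zero.1 h3
  have h3 := hm.triv ht0 ht1 h0 (h.x_ord hx hxR hk) h2
  rw [mem_centralizer_iff]
  rintro r ⟨hr, c, hc⟩
  have h4 : x * r * x⁻¹ = r := by
    rw [conj_eq_iff (D := D) h.hN hx hr hr, hc]
    exact h3 c
  calc r * x = x * r * x⁻¹ * x := by rw [h4]
    _ = x * r := by group

theorem x_e0 (h1 : x ∈ centralizer (D.R0 : Set G)) (c : F) : D.act x (e0 c) = e0 c := by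
  have _ := hk
  have h2 := (mem_centralizer_iff.1 h1) _ (v_e0 (D := D) c)
  have h3 : x * D.v (e0 c) * x⁻¹ = D.v (e0 c) := by rw [← h2]; group
  rw [conj_eq_iff (D := D) h.hN hx (D.v_mem _) (D.v_mem _), D.e_v] at h3
  exact h3

theorem x_quo (h1 : x ∈ centralizer (D.R0 : Set G)) : ∀ v ∈ V, x * v * x⁻¹ * v⁻¹ ∈ QQ D.R0 := by
  obtain ⟨t, ht0, ht1⟩ := h.three
  have h0 := (fix_iff h.hN hx).1 (Mv.of_nor hxR)
  have hm := nm (D := D) h.hN hx
  have h2 := hm.quo ht0 ht1 h0 (h.x_ord hx hxR hk) (h.x_e0 hx hxR hk h1)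
  intro v hv
  have h4 : x * v * x⁻¹ * v⁻¹ ∈ V := mul_mem ((h.hN x hx _).1 hv) (inv_mem hv)
  have h5 := e_comm_one (D := D) h.hN hx (D.e v)
  rw [D.v_e hv] at h5
  rw [h.mem_E h4, h5, Matrix.sub_apply, h2, sub_self]

theorem x_T1 (h1 : x ∈ centralizer (D.R0 : Set G)) (hT : T1 (D.act x)) :
    ∃ y ∈ QQ D.R0, x * y⁻¹ ∈ centralizer (V : Set G) := by
  obtain ⟨t, ht0, ht1⟩ := h.three
  have h0 := (fix_iff h.hN hx).1 (Mv.of_nor hxR)
  have hm := nm (D := D) h.hN hx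
  obtain ⟨a, b, hab⟩ := hm.mem_U' ht0 ht1 h0 (h.x_ord hx hxR hk) hT (h.x_e0 hx hxR hk h1)
  obtain ⟨y, hy, hyA⟩ := h.U_surj a b
  refine ⟨y, hy, ?_⟩
  have hyN := h.Q_N hy
  rw [← act_one_iff (D := D) h.hN (mul_mem hx (inv_mem hyN))]
  intro X
  rw [act_mul h.hN hx (inv_mem hyN), hab, ← hyA, act_act_inv h.hN hyN]

theorem x_cenE (h1 : ∀ a b, x * D.cE a b 0 = D.cE a b 0 * x) : x ∈ centralizer (V : Set G) := by
  obtain ⟨t, ht0, ht1⟩ := h.three
  have h0 := (fix_iff h.hN hx).1 (Mv.of_nor hxR)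
  have hm := nm (D := D) h.hN hx
  rw [← act_one_iff (D := D) h.hN hx]
  apply hm.cenE ht0 ht1 h0 (h.x_ord hx hxR hk)
  intro X hX
  have h2 : x * D.cE (X 0 0) (X 0 1, X 1 0) 0 * x⁻¹ = D.cE (X 0 0) (X 0 1, X 1 0) 0 := by rw [h1]; group
  rw [conj_eq_iff (D := D) h.hN hx (D.cE_mem _ _ _) (D.cE_mem _ _ _), D.e_cE] at h2
  have h3 : X = !![X 0 0, X 0 1; X 1 0, 0] := by apply ext2 <;> simp [hX]
  rw [h3]
  exact h2

end twoel

theorem T1_or_T2 {x : G} (hx : x ∈ N) : T1 (D.act x) ∨ T2 (D.act x) := by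
  obtain ⟨t, ht0, ht1⟩ := h.three
  exact (nm (D := D) h.hN hx).dich ht0 ht1

theorem act_comp {x y : G} (hx : x ∈ N) (hy : y ∈ N) : D.act (x * y) = fun X => D.act x (D.act y X) := by
  funext X
  exact act_mul h.hN hx hy X

theorem T1_one : T1 (D.act 1) := by
  have e : D.act 1 = fun X => X := by
    funext X
    have e1 : 1 * D.v X * (1 : G)⁻¹ = D.v X := by group
    rw [act, e1, D.e_v]
  rw [e]
  exact ⟨fun A => ⟨A, fun _ => rfl⟩, fun A => ⟨A, fun _ => rfl⟩⟩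

theorem T1_sq_pow {x : G} (hx : x ∈ N) (n : ℕ) : T1 (D.act ((x * x) ^ n)) := by
  induction n with
  | zero => rw [pow_zero]; exact h.T1_one
  | succ n ih =>
    rw [pow_succ, h.act_comp (pow_mem (mul_mem hx hx) n) (mul_mem hx hx)]
    refine T1_comp ih ?_
    rw [h.act_comp hx hx]
    rcases h.T1_or_T2 hx with hT | hT
    · exact T1_comp hT hT
    · exact T2_comp hT hT

theorem T2_conj {x n : G} (hx : x ∈ N) (hn : n ∈ N) (hT : T2 (D.act x)) : T2 (D.act (n⁻¹ * x * n)) := by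
  obtain ⟨t, ht0, ht1⟩ := h.three
  have hm := nm (D := D) h.hN hn
  have e : D.act (n⁻¹ * x * n) = fun X => D.act n⁻¹ (D.act x (D.act n X)) := by
    funext X
    rw [act_mul h.hN (mul_mem (inv_mem hn) hx) hn, act_mul h.hN (inv_mem hn) hx]
  rw [e]
  rcases h.T1_or_T2 hn with hn1 | hn2
  · exact T1_T2_comp (hm.T1_symm hn1) (T2_T1_comp hT hn1)
  · exact T2_T1_comp (hm.T2_symm hn2) (T2_comp hT hn2)

variable (S : Sylow 2 G) (hSN : (S : Subgroup G) ≤ N)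
include hSN

/-- `S` interchanges the two factors. -/
theorem s_swap : ∃ s ∈ S, T2 (D.act s) := by
  obtain ⟨t, ht0, ht1⟩ := h.three
  obtain ⟨s, hs, hT⟩ := exists_T2 (D := D) h.hN ht0 ht1
  -- the 2-part of `s`
  obtain ⟨k, m, hm, hn⟩ := Nat.exists_eq_two_pow_mul_odd (orderOf_pos s).ne'
  obtain ⟨j, hj⟩ := hm
  have hs' : s ^ m ∈ N := pow_mem hs m
  have hT' : T2 (D.act (s ^ m)) := by
    have e : s ^ m = s * (s * s) ^ j := by
      rw [hj, pow_succ', pow_mul, pow_two]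
    rw [e, h.act_comp hs (pow_mem (mul_mem hs hs) j)]
    exact T2_T1_comp hT (h.T1_sq_pow hs j)
  have hord : (s ^ m) ^ 2 ^ k = 1 := by
    rw [← pow_mul, mul_comm m, ← hn, pow_orderOf_eq_one]
  have hA : IsPGroup 2 (zpowers (s ^ m)) := by
    rw [IsPGroup.iff_orderOf]
    rintro ⟨y, hy⟩
    obtain ⟨i, rfl⟩ := mem_zpowers_iff.1 hy
    rw [orderOf_mk]
    have h1 : orderOf ((s ^ m) ^ i) ∣ 2 ^ k := by
      apply orderOf_dvd_of_pow_eq_one
      rw [← zpow_natCast, ← _root_.zpow_mul, mul_comm, _root_.zpow_mul, zpow_natCast, hord, _root_.one_zpow]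
    obtain ⟨l, -, hl⟩ := (Nat.dvd_prime_pow Nat.prime_two).1 h1
    exact ⟨l, hl⟩
  obtain ⟨n, hnN, hn'⟩ := All.NOne.exists_conj_sylow S hSN hA (zpowers_le.2 hs')
  exact ⟨_, hn' _ (mem_zpowers _), h.T2_conj hs' hnN hT'⟩

variable (hSR : (S : Subgroup G) ≤ normalizer (D.R0 : Set G))
include hSR

theorem s_ord {x : G} (hx : x ∈ S) : ∃ k : ℕ, x ^ 2 ^ k = 1 := by
  have _ := h
  have _ := hSN
  have _ := hSR
  obtain ⟨k, hk⟩ := S.isPGroup' ⟨x, hx⟩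
  exact ⟨k, by simpa using congrArg Subtype.val hk⟩

theorem s_triv : ∀ x ∈ (S : Subgroup G), (∀ v ∈ V, x * v * x⁻¹ * v⁻¹ ∈ QQ D.R0) →
    x ∈ centralizer (D.R0 : Set G) := by
  intro x hx h1
  obtain ⟨k, hk⟩ := h.s_ord S hSN hSR hx
  exact h.x_triv (hSN hx) (hSR hx) hk h1

theorem s_quo : ∀ x ∈ (S : Subgroup G), x ∈ centralizer (D.R0 : Set G) →
    ∀ v ∈ V, x * v * x⁻¹ * v⁻¹ ∈ QQ D.R0 := by
  intro x hx h1
  obtain ⟨k, hk⟩ := h.s_ord S hSN hSR hx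
  exact h.x_quo (hSN hx) (hSR hx) hk h1

theorem s_two : ∀ s ∈ (S : Subgroup G), s ∈ centralizer (D.R0 : Set G) → ∀ t ∈ (S : Subgroup G),
    t ∈ centralizer (D.R0 : Set G) →
    (∃ y ∈ QQ D.R0, s * y⁻¹ ∈ centralizer (V : Set G)) ∨ (∃ y ∈ QQ D.R0, t * y⁻¹ ∈ centralizer (V : Set G)) ∨
      (∃ y ∈ QQ D.R0, s * t * y⁻¹ ∈ centralizer (V : Set G)) := by
  intro s hs hs1 t ht ht1
  obtain ⟨k, hk⟩ := h.s_ord S hSN hSR hs
  obtain ⟨l, hl⟩ := h.s_ord S hSN hSR ht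
  obtain ⟨m, hm⟩ := h.s_ord S hSN hSR (mul_mem hs ht)
  rcases h.T1_or_T2 (hSN hs) with h1 | h1
  · exact Or.inl (h.x_T1 (hSN hs) (hSR hs) hk hs1 h1)
  rcases h.T1_or_T2 (hSN ht) with h2 | h2
  · exact Or.inr (Or.inl (h.x_T1 (hSN ht) (hSR ht) hl ht1 h2))
  refine Or.inr (Or.inr (h.x_T1 (hSN (mul_mem hs ht)) (hSR (mul_mem hs ht)) hm (mul_mem hs1 ht1) ?_))
  rw [h.act_comp (hSN hs) (hSN ht)]
  exact T2_comp h1 h2

theorem s_cenE : ∀ s ∈ (S : Subgroup G), (∀ a b, s * D.cE a b 0 = D.cE a b 0 * s) →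
    s ∈ centralizer (V : Set G) := by
  intro x hx h1
  obtain ⟨k, hk⟩ := h.s_ord S hSN hSR hx
  exact h.x_cenE (hSN hx) (hSR hx) hk h1

theorem s_bas : ∀ c : F × F, c ≠ 0 → ∃ k, (k ∈ centralizer (D.R0 : Set G) ∨ k ∈ (S : Subgroup G)) ∧
    ∀ b : F × F, ∃ (a : F) (f f' : F),
      D.cE 0 b 0 = D.cE a 0 0 * D.cE 0 (f • c) 0 * (k * D.cE 0 (f' • c) 0 * k⁻¹) := by
  obtain ⟨t, ht0, ht1⟩ := h.three
  intro c hc
  by_cases hc1 : c.1 = 0
  · -- `c = (0, c₂)`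
    have hc2 : c.2 ≠ 0 := fun hc2 => hc (Prod.ext hc1 hc2)
    obtain ⟨s, hs, hT⟩ := h.s_swap S hSN
    have h0 := (fix_iff h.hN (hSN hs)).1 (Mv.of_nor (hSR hs))
    obtain ⟨a, P, hP, -, hsP⟩ := (nm (D := D) h.hN (hSN hs)).swap_e2 ht0 ht1 h0 hT
    refine ⟨s, Or.inr hs, fun b => ?_⟩
    obtain ⟨z, hz⟩ := hP.2 b.1
    refine ⟨a * P z, b.2 / c.2, z / c.2, ?_⟩
    have hv : s * D.cE 0 ((z / c.2) • c) 0 * s⁻¹ ∈ V := (h.hN s (hSN hs) _).1 (D.cE_mem _ _ _)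
    refine D.e_inj (D.cE_mem _ _ _) (mul_mem (mul_mem (D.cE_mem _ _ _) (D.cE_mem _ _ _)) hv) ?_
    rw [D.mul _ (mul_mem (D.cE_mem _ _ _) (D.cE_mem _ _ _)) _ hv, D.mul _ (D.cE_mem _ _ _) _ (D.cE_mem _ _ _),
      ← act_e h.hN (hSN hs) (D.cE_mem _ _ _)]
    have e1 : D.e (D.cE 0 ((z / c.2) • c) 0) = e2 z := by
      rw [D.e_cE]
      apply ext2 <;> simp [e2, hc1, hc2]
    rw [e1, hsP, hz, D.e_cE, D.e_cE, D.e_cE]
    apply ext2 <;> simp [e0, hc1, hc2, CharTwo.add_self_eq_zero, Tens.e1]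
  by_cases hc2 : c.2 = 0
  · obtain ⟨s, hs, hT⟩ := h.s_swap S hSN
    have h0 := (fix_iff h.hN (hSN hs)).1 (Mv.of_nor (hSR hs))
    obtain ⟨a, P, hP, -, hsP⟩ := (nm (D := D) h.hN (hSN hs)).swap_e1 ht0 ht1 h0 hT
    refine ⟨s, Or.inr hs, fun b => ?_⟩
    obtain ⟨z, hz⟩ := hP.2 b.2
    refine ⟨a * P z, b.1 / c.1, z / c.1, ?_⟩
    have hv : s * D.cE 0 ((z / c.1) • c) 0 * s⁻¹ ∈ V := (h.hN s (hSN hs) _).1 (D.cE_mem _ _ _)
    refine D.e_inj (D.cE_mem _ _ _) (mul_mem (mul_mem (D.cE_mem _ _ _) (D.cE_mem _ _ _)) hv) ?_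
    rw [D.mul _ (mul_mem (D.cE_mem _ _ _) (D.cE_mem _ _ _)) _ hv, D.mul _ (D.cE_mem _ _ _) _ (D.cE_mem _ _ _),
      ← act_e h.hN (hSN hs) (D.cE_mem _ _ _)]
    have e1' : D.e (D.cE 0 ((z / c.1) • c) 0) = e1 z := by
      rw [D.e_cE]
      apply ext2 <;> simp [Tens.e1, hc1, hc2]
    rw [e1', hsP, hz, D.e_cE, D.e_cE, D.e_cE]
    apply ext2 <;> simp [e0, e2, hc1, hc2, CharTwo.add_self_eq_zero]
  · -- the torus
    obtain ⟨k, hk, hkA⟩ := lift_act (D := D) h.hN (tor (Units.mk0 t ht0)) (tor (Units.mk0 t ht0)⁻¹)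
    have hkR : k ∈ centralizer (D.R0 : Set G) := by
      rw [mem_centralizer_iff]
      rintro r ⟨hr, x, hx⟩
      have h4 : k * r * k⁻¹ = r := by
        rw [conj_eq_iff (D := D) h.hN hk hr hr, hx, hkA, act_tor_e0]
        simp [ht0]
      calc r * k = k * r * k⁻¹ * k := by rw [h4]
        _ = k * r := by group
    refine ⟨k, Or.inl hkR, fun b => ?_⟩
    -- `b = f c + f' (t² c₁, t⁻² c₂)`
    have hdet : t ^ 2 + (t ^ 2)⁻¹ ≠ 0 := by
      intro h0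
      have h1 : t ^ 2 = (t ^ 2)⁻¹ := CharTwo.add_eq_zero.1 h0
      have h2 : t ^ 2 * t ^ 2 = 1 := by
        nth_rewrite 1 [h1]
        exact inv_mul_cancel₀ (pow_ne_zero 2 ht0)
      have h3 := eq_one_of_sq h2
      rw [pow_two] at h3
      exact ht1 (eq_one_of_sq h3)
    set w := t ^ 2 + (t ^ 2)⁻¹ with hw
    set p := b.1 / c.1 with hp
    set r := b.2 / c.2 with hr
    have hp1 : p * c.1 = b.1 := div_mul_cancel₀ _ hc1
    have hr1 : r * c.2 = b.2 := div_mul_cancel₀ _ hc2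
    have ht2 : t ^ 2 ≠ 0 := pow_ne_zero 2 ht0
    refine ⟨0, ((t ^ 2)⁻¹ * p + t ^ 2 * r) / w, (p + r) / w, ?_⟩
    have hv : k * D.cE 0 (((p + r) / w) • c) 0 * k⁻¹ ∈ V := (h.hN k hk _).1 (D.cE_mem _ _ _)
    refine D.e_inj (D.cE_mem _ _ _) (mul_mem (mul_mem (D.cE_mem _ _ _) (D.cE_mem _ _ _)) hv) ?_
    rw [D.mul _ (mul_mem (D.cE_mem _ _ _) (D.cE_mem _ _ _)) _ hv, D.mul _ (D.cE_mem _ _ _) _ (D.cE_mem _ _ _),
      ← act_e h.hN hk (D.cE_mem _ _ _), hkA, D.e_cE, D.e_cE, D.e_cE, D.e_cE, act_tor]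
    have k1 : b.1 = ((t ^ 2)⁻¹ * p + t ^ 2 * r) / w * c.1 + t * t * ((p + r) / w * c.1) := by
      have : ((t ^ 2)⁻¹ * p + t ^ 2 * r) / w + t * t * ((p + r) / w) = p := by
        have e3 : ((t ^ 2)⁻¹ * p + t ^ 2 * r) / w + t * t * ((p + r) / w) =
            ((t ^ 2)⁻¹ * p + t ^ 2 * r + t * t * (p + r)) / w := by ring
        rw [e3, div_eq_iff hdet, hw]
        have : t ^ 2 * r + t * t * r = 0 := by rw [← pow_two]; exact CharTwo.add_self_eq_zero _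
        linear_combination this
      calc b.1 = p * c.1 := hp1.symm
        _ = (((t ^ 2)⁻¹ * p + t ^ 2 * r) / w + t * t * ((p + r) / w)) * c.1 := by rw [this]
        _ = _ := by ring
    have k2 : b.2 = ((t ^ 2)⁻¹ * p + t ^ 2 * r) / w * c.2 + t⁻¹ * t⁻¹ * ((p + r) / w * c.2) := by
      have : ((t ^ 2)⁻¹ * p + t ^ 2 * r) / w + t⁻¹ * t⁻¹ * ((p + r) / w) = r := by
        have e3 : ((t ^ 2)⁻¹ * p + t ^ 2 * r) / w + t⁻¹ * t⁻¹ * ((p + r) / w) =
            ((t ^ 2)⁻¹ * p + t ^ 2 * r + t⁻¹ * t⁻¹ * (p + r)) / w := by ring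
        rw [e3, div_eq_iff hdet, hw]
        have : (t ^ 2)⁻¹ * p + t⁻¹ * t⁻¹ * p = 0 := by
          rw [← mul_inv, ← pow_two]; exact CharTwo.add_self_eq_zero _
        have e2 : t⁻¹ * t⁻¹ = (t ^ 2)⁻¹ := by rw [← mul_inv, ← pow_two]
        rw [e2] at this ⊢
        linear_combination this
      calc b.2 = r * c.2 := hr1.symm
        _ = (((t ^ 2)⁻¹ * p + t ^ 2 * r) / w + t⁻¹ * t⁻¹ * ((p + r) / w)) * c.2 := by rw [this]
        _ = _ := by ring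
    apply ext2
    · simp
    · simpa using k1
    · simpa using k2
    · simp

theorem s_ns : ∀ b : F × F, b ≠ 0 → b.1 * b.2 ≠ 0 ∨ ∃ s ∈ (S : Subgroup G), ∀ a, ∃ (a' : F) (b' : F × F),
    s * D.cE a b 0 * s⁻¹ = D.cE a' b' 0 ∧ (b + b').1 * (b + b').2 ≠ 0 := by
  obtain ⟨t, ht0, ht1⟩ := h.three
  intro b hb
  by_cases hb1 : b.1 = 0
  · right
    have hb2 : b.2 ≠ 0 := fun hb2 => hb (Prod.ext hb1 hb2)
    obtain ⟨s, hs, hT⟩ := h.s_swap S hSN
    have h0 := (fix_iff h.hN (hSN hs)).1 (Mv.of_nor (hSR hs))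
    have hm := nm (D := D) h.hN (hSN hs)
    obtain ⟨a', P, hP, hP0, hsP⟩ := hm.swap_e2 ht0 ht1 h0 hT
    refine ⟨s, hs, fun a => ?_⟩
    obtain ⟨y, hy⟩ := h0 a
    refine ⟨y + a' * P b.2, (P b.2, 0), ?_, ?_⟩
    · rw [conj_eq_iff (D := D) h.hN (hSN hs) (D.cE_mem _ _ _) (D.cE_mem _ _ _), D.e_cE, D.e_cE]
      have e : (!![a, b.1; b.2, 0] : M2 F) = e0 a + e2 b.2 := by apply ext2 <;> simp [e0, e2, hb1]
      rw [e, hm.add, hy, hsP]
      apply ext2 <;> simp [e0, Tens.e1]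
    · have h1 : P b.2 ≠ 0 := fun h1 => hb2 (hP.1 (h1.trans hP0.symm))
      simp [hb1, h1, hb2]
  by_cases hb2 : b.2 = 0
  · right
    obtain ⟨s, hs, hT⟩ := h.s_swap S hSN
    have h0 := (fix_iff h.hN (hSN hs)).1 (Mv.of_nor (hSR hs))
    have hm := nm (D := D) h.hN (hSN hs)
    obtain ⟨a', P, hP, hP0, hsP⟩ := hm.swap_e1 ht0 ht1 h0 hT
    refine ⟨s, hs, fun a => ?_⟩
    obtain ⟨y, hy⟩ := h0 a
    refine ⟨y + a' * P b.1, (0, P b.1), ?_, ?_⟩
    · rw [conj_eq_iff (D := D) h.hN (hSN hs) (D.cE_mem _ _ _) (D.cE_mem _ _ _), D.e_cE, D.e_cE]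
      have e : (!![a, b.1; b.2, 0] : M2 F) = e0 a + e1 b.1 := by apply ext2 <;> simp [e0, Tens.e1, hb2]
      rw [e, hm.add, hy, hsP]
      apply ext2 <;> simp [e0, e2]
    · have h1 : P b.1 ≠ 0 := fun h1 => hb1 (hP.1 (h1.trans hP0.symm))
      simp [hb1, h1, hb2]
  · exact Or.inl (mul_ne_zero hb1 hb2)

end Cx

end Cfsg.Agent.Omega.NO1.PlusQ

end

end
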